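import Cfsg.Agent.H319.LB.Base
import Cfsg.Agent.H652.Cabanes
import Cfsg.Agent.S4663
import Cfsg.Agent.H656.OverPrincipal
import Cfsg.Agent.Blocks.BlockRank
import Cfsg.Agent.Blocks.CliffordCentral
import Cfsg.Agent.Blocks.OrbitSum
import Cfsg.Agent.H608.BlockRank
import Cfsg.Agent.H970.CycOne

/-!
# A lower bound for the rank of the principal block (S4879, helper319)

* `br_principal` : the Brauer image of the idempotent of `B₀(G)` is the idempotent of `B₀(C_G(Q))`;
* `stab` : `T` normal in `G`, `Q` a `p`-subgroup of `T`, `C = C_T(Q)`, `m` classes of `G` which contain `p`-regular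
  elements of `C`: `m ≤ l(B₀(G)) + (l(C) - l(B₀(C)))`, `l(C)` the number of `p`-regular classes of `C`.
-/

set_option autoImplicit false
set_option linter.unusedSectionVars false

namespace Cfsg.Agent.H319.LB

open Cfsg Subgroup Module
open Cfsg.Agent.H644 Cfsg.Agent.Blocks.Local Cfsg.Agent.Blocks.BlockRank
open Cfsg.Agent.H608.BlockRank hiding IsUnion isUnion_of_isPBlock
open Cfsg.Agent.Characters.Core (finite_irr)

universe u

section rank

variable {p : ℕ} [hp : Fact p.Prime] {M : Ideal AlgInt} [hMp : M.IsPrime]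

/-- The rank does not grow by reduction. -/
theorem rank_red {ι X : Type*} [Finite ι] [Finite X] (v : ι → X → ℂ) (hv : ∀ i x, MemLocalRing M (v i x)) :
    finrank (ResField M) (Submodule.span (ResField M) (Set.range fun i x => redC M (v i x))) ≤
      finrank ℂ (Submodule.span ℂ (Set.range v)) := by
  classical
  obtain ⟨κ, a, ha, hspan, hli⟩ := exists_linearIndependent' (ResField M) (fun i x => redC M (v i x))
  have : Finite κ := Finite.of_injective a ha
  have := Fintype.ofFinite κ
  have h1 : LinearIndependent ℂ (fun k => v (a k)) := linearIndependent_of_redC _ (fun i x => hv (a i) x) hli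
  rw [← hspan, finrank_span_eq_card hli, ← finrank_span_eq_card h1]
  apply Submodule.finrank_mono
  apply Submodule.span_mono
  rintro _ ⟨k, rfl⟩
  exact ⟨a k, rfl⟩

variable {H : Type u} [Group H] [Fintype H]

theorem blockOp_local (hM : IsPModular p M) {B : Set (IrrCharacter H)} (hB : IsUnion M B) {f : H → ℂ}
    (hf : ∀ x, MemLocalRing M (f x)) (g : H) : MemLocalRing M (blockOp B f g) := by
  rw [blockOp_apply]
  exact memLocalRing_sum fun h _ => memLocalRing_mul (memLocalRing_blockCoeff hM hB h) (hf _)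

/-- The functions `e_B f` modulo `M` on `p`-regular elements. -/
theorem rank_block (hM : IsPModular p M) {B : Set (IrrCharacter H)} (hB : IsUnion M B) {ι : Type*} [Finite ι]
    (f : ι → H → ℂ) (hf : ∀ i, IsClassFunction H (f i)) (hfl : ∀ i x, MemLocalRing M (f i x)) {Y : Type*} [Finite Y]
    (y : Y → H) (hy : ∀ j, IsPRegular p (y j)) :
    finrank (ResField M) (Submodule.span (ResField M)
      (Set.range fun (i : ι) (j : Y) => redC M (blockOp B (f i) (y j)))) ≤ blockRank p B := by
  classical
  refine (rank_red (fun i j => blockOp B (f i) (y j)) fun i j => blockOp_local hM hB (hfl i) _).trans ?_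
  rw [blockRank_eq]
  have := finite_irr (G := H)
  let L : (H → ℂ) →ₗ[ℂ] (Y → ℂ) := LinearMap.funLeft ℂ ℂ y
  refine le_trans (Submodule.finrank_mono (?_ : _ ≤ ((charSpan B).map (pReg p)).map L)) (Submodule.finrank_map_le _ _)
  rw [Submodule.span_le]
  rintro _ ⟨i, rfl⟩
  refine ⟨pReg p (blockOp B (f i)), ⟨_, blockOp_mem_span B (hf i), rfl⟩, ?_⟩
  funext j
  show pReg p (blockOp B (f i)) (y j) = _
  rw [pReg_of (hy j)]

end rank

section third

variable {p : ℕ} [hp : Fact p.Prime] {M : Ideal AlgInt} [hMp : M.IsPrime] {G : Type u} [Group G] [Finite G]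

/-- **Third main theorem** for idempotents. -/
theorem br_principal (hM : IsPModular p M) {Q : Subgroup G} (hQ : IsPGroup p Q) :
    br Q (idem M (principalBlock M G)) = idem M (principalBlock M ↥(centralizer (Q : Set G))) := by
  have := Fintype.ofFinite G
  have hB : IsPBlock M (principalBlock M G) := Cfsg.Agent.Blocks.PrincipalSection.isPBlock_principalBlock
  have he : IsCls (br Q (idem M (principalBlock M G))) := isCls_br_of_isCls (isCls_idem _)
  have hee := Cfsg.Agent.H652.Cabanes.br_idem_mul_self hM hB hQ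
  rw [eq_idem_suppSet hM he hee]
  congr 1
  ext ξ
  have hf : IsPBlock M (blockOf M (ξ : ↥(centralizer (Q : Set G)) → ℂ)) := Cfsg.Agent.Blocks.Basic.isPBlock_blockOf ξ
  have hξ : ξ ∈ blockOf M (ξ : ↥(centralizer (Q : Set G)) → ℂ) := Cfsg.Agent.Blocks.Basic.mem_blockOf_self ξ
  have key := S4663.result p M hM Q hQ (blockOf M (ξ : ↥(centralizer (Q : Set G)) → ℂ)) hf
  rw [isBrauerPairOf_iff hM] at key
  constructor
  · intro h
    have h1 := key.1 ⟨⟨hQ, hf⟩, hB, fun ζ hζ => by rw [lam_eq_of_mem hf hζ hξ]; exact h⟩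
    rw [← h1]
    exact hξ
  · intro h
    have h1 : blockOf M (ξ : ↥(centralizer (Q : Set G)) → ℂ) = principalBlock M ↥(centralizer (Q : Set G)) :=
      Cfsg.Agent.Blocks.Basic.isPBlock_eq_of_mem hf Cfsg.Agent.Blocks.PrincipalSection.isPBlock_principalBlock hξ h
    exact (key.2 h1).2.2 ξ hξ

theorem redC_blockCoeff (hM : IsPModular p M) {Q : Subgroup G} (hQ : IsPGroup p Q)
    (h : ↥(centralizer (Q : Set G))) : redC M (blockCoeff (principalBlock M G) (h : G)) =
      redC M (blockCoeff (principalBlock M ↥(centralizer (Q : Set G))) h) := by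
  have h1 := congrArg (fun a => a.coeff h) (br_principal hM hQ)
  simp only [coeff_br, coeff_idem] at h1
  exact h1

theorem redC_blockOp (hM : IsPModular p M) [Fintype G] {Q : Subgroup G} [Fintype ↥(centralizer (Q : Set G))]
    (hQ : IsPGroup p Q) {f : G → ℂ} (hf : IsClassFunction G f) (hfl : ∀ x, MemLocalRing M (f x))
    (s : ↥(centralizer (Q : Set G))) : redC M (blockOp (principalBlock M G) f (s : G)) =
      redC M (blockOp (principalBlock M ↥(centralizer (Q : Set G))) (fun c => f (c : G)) s) := by
  classical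
  have hch : CharP (ResField M) p := charP_resField hM
  have hB : IsUnion M (principalBlock M G) := isUnion_of_isPBlock
    Cfsg.Agent.Blocks.PrincipalSection.isPBlock_principalBlock
  have hBC : IsUnion M (principalBlock M ↥(centralizer (Q : Set G))) := isUnion_of_isPBlock
    Cfsg.Agent.Blocks.PrincipalSection.isPBlock_principalBlock
  rw [blockOp_apply, blockOp_apply,
    redC_sum fun h _ => memLocalRing_mul (memLocalRing_blockCoeff hM hB h) (hfl _),
    redC_sum fun h _ => memLocalRing_mul (memLocalRing_blockCoeff hM hBC h) (hfl _)]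
  have h1 : ∀ u ∈ Q, ∀ x : G, redC M (blockCoeff (principalBlock M G) (u * x * u⁻¹) * f (u * x * u⁻¹ * s)) =
      redC M (blockCoeff (principalBlock M G) x * f (x * s)) := by
    intro u hu x
    have h2 : u * (s : G) = s * u := (mem_centralizer_iff.1 s.2) u hu
    have h3 : u * x * u⁻¹ * (s : G) = u * (x * s) * u⁻¹ := by
      have h4 : u⁻¹ * (s : G) = s * u⁻¹ := by
        rw [inv_mul_eq_iff_eq_mul, ← mul_assoc, h2, mul_inv_cancel_right]
      calc u * x * u⁻¹ * (s : G) = u * x * (u⁻¹ * s) := by group
        _ = u * (x * s) * u⁻¹ := by rw [h4]; group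
    rw [h3, hf, Cfsg.Agent.Blocks.MinMax.isClassFunction_blockCoeff (principalBlock M G) x u]
  obtain ⟨a, ha⟩ := Cfsg.Agent.Blocks.OrbitSum.sum_eq_sum_centralizer_add_smul Q hQ
    (fun x => redC M (blockCoeff (principalBlock M G) x * f (x * s))) h1
  rw [ha, nsmul_eq_mul, CharP.cast_eq_zero, zero_mul, add_zero]
  symm
  refine Finset.sum_bij (fun (z : ↥(centralizer (Q : Set G))) _ => (z : G)) ?_ ?_ ?_ ?_
  · intro z _
    simp
  · intro z _ z' _ h
    exact Subtype.ext h
  · intro z hz
    have hz' : z ∈ centralizer (Q : Set G) := by simpa using hz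
    exact ⟨⟨z, hz'⟩, Finset.mem_univ _, rfl⟩
  · intro z _
    rw [redC_mul (memLocalRing_blockCoeff hM hBC z) (hfl _),
      redC_mul (memLocalRing_blockCoeff hM hB (z : G)) (hfl _), redC_blockCoeff hM hQ]
    rfl

end third

section ovr

variable {p : ℕ} [hp : Fact p.Prime] {M : Ideal AlgInt} [hMp : M.IsPrime] {G : Type u} [Group G] [Fintype G]
  (T : Subgroup G) [hT : T.Normal] [Fintype T]

/-- averaging over the conjugates -/
noncomputable def avg : (T → ℂ) →ₗ[ℂ] (T → ℂ) where
  toFun u t := (Fintype.card G : ℂ)⁻¹ * ∑ z : G, u (MulAut.conjNormal z t)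
  map_add' u v := by
    funext t
    simp only [Pi.add_apply, Finset.sum_add_distrib, mul_add]
  map_smul' c u := by
    funext t
    simp only [Pi.smul_apply, smul_eq_mul, RingHom.id_apply, Finset.mul_sum]
    exact Finset.sum_congr rfl fun _ _ => by ring

theorem avg_apply (u : T → ℂ) (t : T) :
    avg T u t = (Fintype.card G : ℂ)⁻¹ * ∑ z : G, u (MulAut.conjNormal z t) := rfl

theorem avg_of_invariant {u : T → ℂ} (hu : ∀ (z : G) (t : T), u (MulAut.conjNormal z t) = u t) : avg T u = u := by
  funext t
  rw [avg_apply, Finset.sum_congr rfl fun z _ => hu z t, Finset.sum_const, Finset.card_univ, nsmul_eq_mul,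
    ← mul_assoc, inv_mul_cancel₀, one_mul]
  exact_mod_cast Fintype.card_ne_zero

theorem avg_irr (χ : IrrCharacter G) (θ : IrrCharacter T)
    (h : classInner (fun n : T => (χ : G → ℂ) n) (θ : T → ℂ) ≠ 0) :
    avg T (θ : T → ℂ) = ((θ : T → ℂ) 1 / (χ : G → ℂ) 1) • fun t : T => (χ : G → ℂ) t := by
  classical
  funext t
  have hχ1 : (χ : G → ℂ) 1 ≠ 0 := Cfsg.Agent.Blocks.Basic.irr_one_ne_zero χ.2
  have hθ1 : (θ : T → ℂ) 1 ≠ 0 := Cfsg.Agent.Blocks.Basic.irr_one_ne_zero θ.2
  let F : T → ℂ := fun n => ∑ z : G, if MulAut.conjNormal z t = n then (1 : ℂ) else 0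
  have hF : ∀ (g : G) (n : T), F ⟨g * n * g⁻¹, hT.conj_mem n n.2 g⟩ = F n := by
    intro g n
    refine Fintype.sum_equiv (Equiv.mulLeft g⁻¹) _ _ fun z => ?_
    have h1 : (MulAut.conjNormal z t = (⟨g * n * g⁻¹, hT.conj_mem n n.2 g⟩ : T)) ↔
        MulAut.conjNormal (g⁻¹ * z) t = n := by
      rw [map_mul, MulAut.mul_apply]
      have h2 : (⟨g * n * g⁻¹, hT.conj_mem n n.2 g⟩ : T) = MulAut.conjNormal g n := by
        apply Subtype.ext
        rw [MulAut.conjNormal_apply]
      rw [h2, map_inv, MulAut.inv_apply, MulEquiv.symm_apply_eq]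
    exact if_congr h1 rfl rfl
  have hsum : ∀ u : T → ℂ, ∑ n : T, F n * u n = ∑ z : G, u (MulAut.conjNormal z t) := by
    intro u
    simp only [F, Finset.sum_mul]
    rw [Finset.sum_comm]
    refine Finset.sum_congr rfl fun z _ => ?_
    simp only [ite_mul, one_mul, zero_mul]
    rw [Finset.sum_ite_eq]
    simp
  have key := Cfsg.Agent.Blocks.CliffordCentral.sum_div_eq_of_constituent T χ θ h F hF
  rw [hsum, hsum] at key
  have hχ : ∑ z : G, (χ : G → ℂ) (MulAut.conjNormal z t : T) = (Fintype.card G : ℂ) * (χ : G → ℂ) t := by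
    rw [Finset.sum_congr rfl fun z _ => ?_, Finset.sum_const, Finset.card_univ, nsmul_eq_mul]
    rw [MulAut.conjNormal_apply]
    exact Cfsg.Agent.Characters.Core.isIrr_isClassFunction χ.2 _ _
  rw [hχ] at key
  have hG : (Fintype.card G : ℂ) ≠ 0 := by exact_mod_cast Fintype.card_ne_zero
  rw [avg_apply, Pi.smul_apply, smul_eq_mul]
  field_simp at key ⊢
  linear_combination -key

/-- the blocks of a normal subgroup, seen in the group -/
theorem rank_over (hM : IsPModular p M) {ι : Type*} [Finite ι] (f : ι → G → ℂ)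
    (hf : ∀ i, IsClassFunction G (f i)) {Y : Type*} [Finite Y] (y : Y → T) (hy : ∀ j, IsPRegular p (y j)) :
    finrank ℂ (Submodule.span ℂ
      (Set.range fun (i : ι) (j : Y) => blockOp (principalBlock M T) (fun t : T => f i t) (y j))) ≤
      blockRank p (principalBlock M G) := by
  classical
  rw [blockRank_eq]
  have := finite_irr (G := G)
  have hc : ∀ (z : G) (h : T), blockCoeff (principalBlock M T) (MulAut.conjNormal z h) =
      blockCoeff (principalBlock M T) h := fun z h => by
    rw [← Cfsg.Agent.H649.blockCoeff_blkMap (MulAut.conjNormal z) (principalBlock M T) h,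
      Cfsg.Agent.H649.blkMap_principalBlock]
  let L : (G → ℂ) →ₗ[ℂ] (Y → ℂ) := LinearMap.funLeft ℂ ℂ (fun j => (y j : G))
  let R : (G → ℂ) →ₗ[ℂ] (T → ℂ) := LinearMap.funLeft ℂ ℂ (fun t : T => (t : G))
  refine le_trans (Submodule.finrank_mono (?_ : _ ≤ ((charSpan (principalBlock M G)).map (pReg p)).map L))
    (Submodule.finrank_map_le _ _)
  rw [Submodule.span_le]
  rintro _ ⟨i, rfl⟩
  have hfT : IsClassFunction T (fun t : T => f i t) := fun g h => hf i g h
  have hg := blockOp_mem_span (principalBlock M T) hfT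
  set g := blockOp (principalBlock M T) (fun t : T => f i t) with hgd
  have hinv : avg T g = g := by
    apply avg_of_invariant
    intro z t
    rw [hgd, blockOp_apply, blockOp_apply]
    refine (Fintype.sum_equiv (MulAut.conjNormal z : MulAut T).toEquiv _ _ fun h => ?_).symm
    show _ = blockCoeff (principalBlock M T) (MulAut.conjNormal z h) *
      f i ((MulAut.conjNormal z h * MulAut.conjNormal z t : T) : G)
    rw [hc, ← map_mul, MulAut.conjNormal_apply]
    congr 1
    exact (hf i _ _).symm
  have hmem : g ∈ (charSpan (principalBlock M G)).map R := by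
    rw [← hinv]
    have h1 : (Submodule.span ℂ ((fun χ : IrrCharacter T => (χ : T → ℂ)) '' principalBlock M T)).map (avg T) ≤
        (charSpan (principalBlock M G)).map R := by
      rw [Submodule.map_span, Submodule.span_le]
      rintro _ ⟨_, ⟨θ, hθ, rfl⟩, rfl⟩
      obtain ⟨P⟩ : Nonempty (Sylow p G) := inferInstance
      obtain ⟨χ, hχ, hχθ⟩ := Cfsg.Agent.H656.OverPrincipal.exists_over hM T P
        (by rw [Subgroup.normalizer_eq_top]; exact le_top) θ hθ
      rw [avg_irr T χ θ hχθ]
      refine Submodule.smul_mem _ _ ⟨(χ : G → ℂ), Submodule.subset_span ⟨χ, hχ, rfl⟩, rfl⟩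
    exact h1 ⟨g, hg, rfl⟩
  obtain ⟨u, hu, hug⟩ := hmem
  refine ⟨pReg p u, ⟨u, hu, rfl⟩, ?_⟩
  funext j
  show pReg p u (y j : G) = g (y j)
  have hreg : IsPRegular p ((y j : T) : G) := by
    have := hy j
    unfold IsPRegular at this ⊢
    rwa [Subgroup.orderOf_coe]
  rw [pReg_of hreg, ← hug]
  rfl

end ovr

section main

variable {p : ℕ} [hp : Fact p.Prime] {M : Ideal AlgInt}

open scoped Classical in
/-- the indicator function of the class of `s` -/
noncomputable def ind {G : Type*} [Group G] (s : G) : G → ℂ := fun g => if IsConj g s then 1 else 0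

theorem ind_of {G : Type*} [Group G] {s g : G} (h : IsConj g s) : ind s g = 1 := if_pos h

theorem ind_of_not {G : Type*} [Group G] {s g : G} (h : ¬ IsConj g s) : ind s g = 0 := if_neg h

theorem ind_class {G : Type*} [Group G] (s : G) : IsClassFunction G (ind s) := by
  intro g h
  have h1 : IsConj (h * g * h⁻¹) s ↔ IsConj g s :=
    ⟨fun h2 => (isConj_iff.2 ⟨h, rfl⟩ : IsConj g (h * g * h⁻¹)).trans h2,
      fun h2 => (isConj_iff.2 ⟨h, rfl⟩ : IsConj g (h * g * h⁻¹)).symm.trans h2⟩
  by_cases h3 : IsConj g s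
  · rw [ind_of h3, ind_of (h1.2 h3)]
  · rw [ind_of_not h3, ind_of_not (fun h4 => h3 (h1.1 h4))]

theorem stab_aux (hM : IsPModular p M) {G : Type u} [Group G] [Finite G] (T : Subgroup G) [T.Normal]
    (Q : Subgroup ↥T) (hQ : IsPGroup p ↥Q) (C : Subgroup ↥T) (hC : C = centralizer (Q : Set ↥T)) {m : ℕ}
    (t : Fin m → ↥C) (ht : ∀ i, ¬ p ∣ orderOf (t i))
    (hne : ∀ i j, i ≠ j → ¬ IsConj (((t i : ↥C) : ↥T) : G) ((t j : ↥T) : G)) :
    m + blockRank p (principalBlock M ↥C) ≤
      blockRank p (principalBlock M G) + Nat.card (H697.Pk.PReg p ↥C) := by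
  classical
  have hMp : M.IsPrime := isPrime_of_isPModular hM
  have := Fintype.ofFinite G
  have := Fintype.ofFinite ↥T
  have := Fintype.ofFinite ↥C
  have := finite_irr (G := C)
  -- the functions
  let f : Fin m → G → ℂ := fun i => ind ((t i : ↥T) : G)
  have hf : ∀ i, IsClassFunction G (f i) := fun i => ind_class _
  let fT : Fin m → ↥T → ℂ := fun i x => f i x
  let fC : Fin m → ↥C → ℂ := fun i x => f i ((x : ↥T) : G)
  have hfC : ∀ i, IsClassFunction ↥C (fC i) := fun i g h => hf i ((g : ↥T) : G) ((h : ↥T) : G)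
  have hfl : ∀ i (x : G), MemLocalRing M (f i x) := by
    intro i x
    by_cases h : IsConj x ((t i : ↥T) : G)
    · show MemLocalRing M (ind _ _)
      rw [ind_of h]; exact memLocalRing_one
    · show MemLocalRing M (ind _ _)
      rw [ind_of_not h]; exact memLocalRing_zero
  let Y := {s : ↥C // ¬ p ∣ orderOf s}
  let y : Y → ↥C := Subtype.val
  have hy : ∀ j, IsPRegular p (y j) := fun j => j.2
  let B' : Set (IrrCharacter ↥C) := (principalBlock M ↥C)ᶜ
  have hB : IsUnion M (principalBlock M ↥C) := isUnion_of_isPBlock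
    Cfsg.Agent.Blocks.PrincipalSection.isPBlock_principalBlock
  have hB' : IsUnion M B' := by
    intro χ hχ ψ h hψ
    exact hχ (hB ψ hψ χ (Cfsg.Agent.Blocks.Basic.sameBlock_symm h))
  -- ranks
  let E : Set (IrrCharacter ↥C) → Submodule (ResField M) (Y → ResField M) := fun B =>
    Submodule.span (ResField M) (Set.range fun (i : Fin m) (j : Y) => redC M (blockOp B (fC i) (y j)))
  have hE : ∀ B, E B = Submodule.span (ResField M)
    (Set.range fun (i : Fin m) (j : Y) => redC M (blockOp B (fC i) (y j))) := fun _ => rfl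
  have h1 : finrank (ResField M) (E B') ≤ blockRank p B' := rank_block hM hB' fC hfC (fun i x => hfl i _) y hy
  have h2 : blockRank p B' + blockRank p (principalBlock M ↥C) ≤ Nat.card (H697.Pk.PReg p ↥C) := by
    have h3 := blockRank_union hM (B := B') (B' := principalBlock M ↥C) (fun χ ψ h h' => hB' χ h' ψ h)
      (fun χ ψ h h' => hB χ h' ψ h)
      (Set.disjoint_left.2 fun χ h h' => h h')
    rw [← h3, Set.compl_union_self]
    exact Cfsg.Agent.H970.CycOne.blockRank_univ_le p
  have h4 : finrank (ResField M) (E (principalBlock M ↥C)) ≤ blockRank p (principalBlock M G) := by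
    have hBT : IsUnion M (principalBlock M ↥T) := isUnion_of_isPBlock
      Cfsg.Agent.Blocks.PrincipalSection.isPBlock_principalBlock
    have h6 : E (principalBlock M ↥C) = Submodule.span (ResField M)
        (Set.range fun (i : Fin m) (j : Y) => redC M (blockOp (principalBlock M ↥T) (fT i) ((y j : ↥C) : ↥T))) := by
      rw [hE]
      congr 2
      funext i j
      subst hC
      exact (redC_blockOp hM hQ (fun g h => hf i (g : G) (h : G)) (fun x => hfl i _) (y j)).symm
    rw [h6]
    refine (rank_red (fun (i : Fin m) (j : Y) => blockOp (principalBlock M ↥T) (fT i) ((y j : ↥C) : ↥T))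
      fun i j => blockOp_local hM hBT (fun x => hfl i _) _).trans ?_
    refine rank_over T hM f hf (fun j => ((y j : ↥C) : ↥T)) fun j => ?_
    have := hy j
    unfold IsPRegular at this ⊢
    rwa [Subgroup.orderOf_coe]
  have h5 : m ≤ finrank (ResField M) (E (principalBlock M ↥C)) + finrank (ResField M) (E B') := by
    let F : Fin m → Y → ResField M := fun i j => redC M (fC i (y j))
    have hli : LinearIndependent (ResField M) F := by
      rw [Fintype.linearIndependent_iff]
      intro g hg i
      have h6 := congrFun hg ⟨t i, ht i⟩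
      rw [Finset.sum_apply] at h6
      rw [Finset.sum_eq_single i] at h6
      · rw [Pi.smul_apply, smul_eq_mul, Pi.zero_apply] at h6
        have h7 : F i ⟨t i, ht i⟩ = 1 := by
          show redC M (ind _ _) = 1
          rw [ind_of (IsConj.refl _), redC_one]
        rwa [h7, mul_one] at h6
      · intro j _ hji
        have h7 : F j ⟨t i, ht i⟩ = 0 := by
          show redC M (ind _ _) = 0
          rw [ind_of_not (hne i j (Ne.symm hji)), redC_zero]
        rw [Pi.smul_apply, smul_eq_mul, h7, mul_zero]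
      · intro h
        exact absurd (Finset.mem_univ i) h
    have h6 : Submodule.span (ResField M) (Set.range F) ≤ E (principalBlock M ↥C) ⊔ E B' := by
      rw [Submodule.span_le]
      rintro _ ⟨i, rfl⟩
      have h7 : blockOp (principalBlock M ↥C) (fC i) + blockOp B' (fC i) = fC i := by
        have := Fintype.ofFinite (IrrCharacter ↥C)
        have h8 := Cfsg.Agent.Characters.Core.classFunction_eq_sum (hfC i)
        conv_rhs => rw [h8]
        conv_lhs => rw [h8]
        rw [map_sum, map_sum, ← Finset.sum_add_distrib]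
        refine Finset.sum_congr rfl fun χ _ => ?_
        rw [map_smul, map_smul, ← smul_add, blockOp_irr, blockOp_irr, ← add_smul]
        congr 1
        by_cases h9 : χ ∈ principalBlock M ↥C
        · rw [if_pos h9, if_neg (fun h : χ ∈ B' => h h9), add_zero, one_smul]
        · rw [if_neg h9, if_pos (show χ ∈ B' from h9), zero_add, one_smul]
      have h8 : F i = (fun j : Y => redC M (blockOp (principalBlock M ↥C) (fC i) (y j))) +
          (fun j : Y => redC M (blockOp B' (fC i) (y j))) := by
        funext j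
        rw [Pi.add_apply, ← redC_add (blockOp_local hM hB (fun x => hfl i _) _)
          (blockOp_local hM hB' (fun x => hfl i _) _)]
        show redC M (fC i (y j)) = _
        conv_lhs => rw [← h7]
        rfl
      rw [h8]
      exact Submodule.add_mem_sup (Submodule.subset_span ⟨i, rfl⟩) (Submodule.subset_span ⟨i, rfl⟩)
    have h7 := Submodule.finrank_mono h6
    rw [finrank_span_eq_card hli, Fintype.card_fin] at h7
    exact h7.trans (Submodule.finrank_add_le_finrank_add_finrank _ _)
  omega

/-- **Lower bound for the rank of the principal block.** -/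
theorem stab (hM : IsPModular p M) {G : Type u} [Group G] [Finite G] (T : Subgroup G) [T.Normal]
    (Q : Subgroup ↥T) (hQ : IsPGroup p ↥Q) {m : ℕ} (t : Fin m → ↥(centralizer (Q : Set ↥T)))
    (ht : ∀ i, ¬ p ∣ orderOf (t i))
    (hne : ∀ i j, i ≠ j → ¬ IsConj (((t i : ↥(centralizer (Q : Set ↥T))) : ↥T) : G) ((t j : ↥T) : G)) :
    m + blockRank p (principalBlock M ↥(centralizer (Q : Set ↥T))) ≤
      blockRank p (principalBlock M G) + Nat.card (H697.Pk.PReg p ↥(centralizer (Q : Set ↥T))) :=
  stab_aux hM T Q hQ _ rfl t ht hne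

end main

end Cfsg.Agent.H319.LB
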