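import Cfsg.Agent.H734.KB.Crit
import Cfsg.Agent.H657.PrinQuot
import Cfsg.Agent.H595.NormalRank
import Cfsg.Agent.H741.One.Count
import Cfsg.Agent.H697.PSolvB
import Cfsg.Agent.H697.OneClass
import Cfsg.Agent.H142.GmnBlock
import Cfsg.Agent.H415.Palfy.Ext
import Cfsg.Agent.S0133
import Cfsg.Agent.S4646

/-!
# S4879: `p`-solvable groups, Sylow subgroups of order `p`, reduction (helper319)

* `lz p M G` : the rank of the principal block;
* `Exc p M G` : the exceptional case of S4879 for `O_{p'}(G) = 1`;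
* `goal_psolv` : `p`-solvable groups with `O_{p'}(G) = 1`, `p² ∣ |G|`;
* `RowAS` : the almost simple groups; `main_of_row` : S4879 from `RowAS`.
-/

set_option autoImplicit false

namespace Cfsg.Agent.H319.LB

open Cfsg Subgroup
open Cfsg.Agent.H741.One (OneC)

universe u

/-- The rank of the principal block. -/
noncomputable def lz (p : ℕ) (M : Ideal AlgInt) (G : Type*) [Group G] : ℕ := blockRank p (principalBlock M G)

/-- The exceptional case. -/
def Exc (p : ℕ) (M : Ideal AlgInt) (G : Type*) [Group G] : Prop :=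
  p = 11 ∧ lz p M G = 9 ∧ (Nat.card G = 121 * 120 ∧
    ∃ H : Subgroup G, IsFrobeniusComplement H ∧ Nonempty (↥H ≃* Matrix.SpecialLinearGroup (Fin 2) (ZMod 5)))

/-- The statement of S4879. -/
def Goal (p : ℕ) (M : Ideal AlgInt) (G : Type*) [Group G] (P : Sylow p G) : Prop :=
  p ≤ blockRank p (principalBlock M G) ∨
    (blockRank p (principalBlock M G) = p - 1 ∧ Nat.card (P : Subgroup G) = p ∧
      (Subgroup.centralizer ((P : Subgroup G) : Set G)).relIndex
        (Subgroup.normalizer ((P : Subgroup G) : Set G)) = p - 1) ∨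
    (p = 11 ∧ blockRank p (principalBlock M G) = 9 ∧
      (Nat.card (G ⧸ pPrimeCore p G) = 121 * 120 ∧ ∃ H : Subgroup (G ⧸ pPrimeCore p G),
        IsFrobeniusComplement H ∧ Nonempty (↥H ≃* Matrix.SpecialLinearGroup (Fin 2) (ZMod 5))))

/-- The almost simple groups. -/
def RowAS (p : ℕ) (M : Ideal AlgInt) : Prop :=
  ∀ (G : Type u) [Group G] [Finite G], OneC p G → p ^ 2 ∣ Nat.card G →
    ∀ (T : Subgroup G) [T.Normal] [IsSimpleGroup T], (∀ z ∈ T, (∀ t ∈ T, Commute z t) → z = 1) →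
    (∀ g : G, (∀ t ∈ T, Commute g t) → g = 1) → (∀ x : G, (∃ k : ℕ, orderOf x = p ^ k) → x ∈ T) →
    p ≤ lz p M G

variable {p : ℕ} [hp : Fact p.Prime] {M : Ideal AlgInt}

theorem lz_congr {G H : Type*} [Group G] [Group H] (e : G ≃* H) : lz p M G = lz p M H :=
  Cfsg.Agent.H590.RankSum.rank_congr e

theorem lz_quot (hM : IsPModular p M) {G : Type*} [Group G] [Finite G] (N : Subgroup G) [N.Normal]
    (hN : ¬ p ∣ Nat.card N) : lz p M G = lz p M (G ⧸ N) :=
  Cfsg.Agent.H657.PrinQuot.blockRank_eq hM N hN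

/-- **The `p`-solvable case.** -/
theorem goal_psolv {G : Type u} [Group G] [Finite G] (hM : IsPModular p M) (hps : IsPSolvable p G)
    (hcore : pPrimeCore p G = ⊥) (hdiv : p ^ 2 ∣ Nat.card G) (hconj : OneC p G) :
    p ≤ lz p M G ∨ Exc p M G := by
  classical
  have hp' := hp.out
  have hd1 : p ∣ Nat.card G := (dvd_pow_self p two_ne_zero).trans hdiv
  obtain ⟨V, H, hVn, hVc, hVp, hV1, hVH, hpH, hcent, htr⟩ :=
    Cfsg.Agent.H697.ActMain.structure_of_core hps hcore hd1 hconj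
  have hVpg : IsPGroup p V := by
    intro x
    exact ⟨1, Subtype.ext (by rw [pow_one]; exact hVp x x.2)⟩
  have hidx : ¬ p ∣ V.index := by rw [hVH.symm.index_eq_card]; exact hpH
  have hdeg : ∀ χ : IrrCharacter G, ¬ p ∣ charDegree (χ : G → ℂ) := by
    intro χ h
    apply hidx
    refine h.trans ?_
    have h1 : charDegree (χ : G → ℂ) ∈ charDegrees G :=
      Cfsg.Agent.H681.DegBasic.mem_charDegrees.2 ⟨χ, χ.2, (Cfsg.Agent.H686.CharKit.charDegree_irr χ).symm⟩
    exact Cfsg.Agent.H415.Palfy.ito V hVc h1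
  let P : Sylow p G := hVpg.toSylow hidx
  have hpe : ∀ v ∈ V, ∃ k : ℕ, orderOf v = p ^ k := by
    intro v hv
    obtain ⟨k, -, hk⟩ := (Nat.dvd_prime_pow hp').1 (show orderOf v ∣ p ^ 1 by
      rw [pow_one]
      exact orderOf_dvd_of_pow_eq_one (hVp v hv))
    exact ⟨k, hk⟩
  have hblk : ∀ χ : IrrCharacter G, χ ∈ principalBlock M G := by
    intro χ
    refine Cfsg.Agent.H142.GmnBlock.mem_principal hM P χ (hdeg χ) fun g hg => ?_
    refine Cfsg.Agent.H142.GmnBlock.mem_of_pElement hM χ (hpe g (hcent g fun v hv => ?_))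
    exact (Subgroup.mem_centralizer_iff.1 hg v hv).symm
  have hl : lz p M G = Nat.card (Cfsg.Agent.H697.Pk.PReg p G) := by
    unfold lz
    rw [Cfsg.Agent.H595.NormalRank.rank_normal_sylow V hVpg hidx _ (fun θ => hblk _), S0133.result,
      ← Cfsg.Agent.H697.Pk.card_quotient_eq V hVpg]
    exact (Cfsg.Agent.H697.Pk.card_eq_of_not_dvd (p := p) hidx).symm
  rcases Cfsg.Agent.H697.PSolvB.main p hps hd1 hconj with h | ⟨-, ⟨e⟩⟩ | ⟨h1, h2, h3, H, h4, h5⟩
  · left
    rw [hl]
    exact h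
  · exfalso
    have h1 : Nat.card G ≤ p * (p - 1) := by
      rw [Nat.card_congr e.toEquiv]
      exact Cfsg.Agent.H697.Affine.card_affine_le
    have h2 := (Nat.le_of_dvd Nat.card_pos hdiv).trans h1
    have h3 := hp'.two_le
    rw [sq] at h2
    have h4 := Nat.le_of_mul_le_mul_left h2 hp'.pos
    omega
  · exact Or.inr ⟨h1, by rw [hl, h2], h3, H, h4, h5⟩

/-- `|P| = p` -/
theorem goal_prime (hM : IsPModular p M) {G : Type*} [Group G] [Finite G] (P : Sylow p G) (hdiv : p ∣ Nat.card G)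
    (h2 : ¬ p ^ 2 ∣ Nat.card G) (hconj : OneC p G) : Goal p M G P := by
  have hp' := hp.out
  have hP : Nat.card (P : Subgroup G) = p := by
    have h1 : p ∣ Nat.card (P : Subgroup G) := P.dvd_card_of_dvd_card hdiv
    obtain ⟨n, hn⟩ := IsPGroup.iff_card.1 P.isPGroup'
    rw [hn] at h1 ⊢
    have h3 : n < 2 := by
      by_contra h3
      apply h2
      refine dvd_trans (pow_dvd_pow p (by omega : 2 ≤ n)) ?_
      rw [← hn]
      exact Subgroup.card_subgroup_dvd_card _
    interval_cases n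
    · rw [pow_zero, Nat.dvd_one] at h1
      exact absurd h1 hp'.ne_one
    · exact pow_one p
  have h3 := Cfsg.Agent.H970.CycOne.relIndex_eq p P hP hconj
  refine Or.inr (Or.inl ⟨?_, hP, h3⟩)
  rw [Cfsg.Agent.H734.KB.rank_cyclic hM P (isCyclic_of_prime_card hP) hdiv, h3]

/-- **S4879 from the almost simple groups.** -/
theorem main_of_row (hM : IsPModular p M) (hRow : RowAS.{u} p M) {G : Type u} [Group G] [Finite G]
    (hdiv : p ∣ Nat.card G) (hconj : OneC p G) (P : Sylow p G) : Goal p M G P := by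
  by_cases hp2 : p ^ 2 ∣ Nat.card G
  swap
  · exact goal_prime hM P hdiv hp2 hconj
  have hcop := Lib.Cores.pPrimeCore_coprime (G := G) p
  have hN : ¬ p ∣ Nat.card ↥(pPrimeCore p G) := (Nat.Prime.coprime_iff_not_dvd hp.out).1 hcop.symm
  have hnn : (pPrimeCore p G).Normal := Lib.Cores.pPrimeCore_normal p
  have hf : Function.Surjective (QuotientGroup.mk' (pPrimeCore p G)) := QuotientGroup.mk'_surjective _
  have hk : lz p M G = lz p M (G ⧸ pPrimeCore p G) := lz_quot hM _ hN
  have hc' : OneC p (G ⧸ pPrimeCore p G) := H697.PSolvA.hconj_map _ hf hconj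
  have h2' : p ^ 2 ∣ Nat.card (G ⧸ pPrimeCore p G) := by
    have h1 := Subgroup.card_eq_card_quotient_mul_card_subgroup (pPrimeCore p G)
    rw [h1] at hp2
    exact (Nat.Coprime.pow_left 2 ((Nat.Prime.coprime_iff_not_dvd hp.out).2 hN)).dvd_of_dvd_mul_right hp2
  have hco' := Lib.Cores.pPrimeCore_quotient_pPrimeCore (G := G) p
  have key : p ≤ lz p M (G ⧸ pPrimeCore p G) ∨ Exc p M (G ⧸ pPrimeCore p G) := by
    by_cases hs : IsPSolvable p (G ⧸ pPrimeCore p G)
    · exact goal_psolv hM hs hco' h2' hc'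
    · obtain ⟨T, hTn, hTs, hTc, hTC, hTp⟩ := H697.OneClass.almost_simple hs hco' hc'
      exact Or.inl (hRow _ hc' h2' T hTc hTC hTp)
  rcases key with h | ⟨h1, h2, h3⟩
  · left
    rw [← hk] at h
    exact h
  · right; right
    rw [← hk] at h2
    exact ⟨h1, h2, h3⟩

end Cfsg.Agent.H319.LB
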