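import Cfsg.Agent.H319.LB.IbrAut
import Cfsg.Agent.H319.LB.Base
import Cfsg.Agent.H657.E27Main
import Cfsg.Agent.H696.LB.FiveOf
import Cfsg.Agent.H774.K0.Six
import Cfsg.Agent.H970.CycOne

/-!
# S4879, `p = 3`: extraspecial Sylow `3`-subgroups of order `27` (helper319)

`e27_row` : all nontrivial `3`-elements of `G` are conjugate, the Sylow `3`-subgroups are extraspecial of order `27`:
`3 ≤ l(B₀(G))`.
-/

set_option autoImplicit false
set_option linter.unusedSectionVars false

namespace Cfsg.Agent.H319.LB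

open Cfsg Subgroup Module IsLocalRing
open Cfsg.Agent.H644 Cfsg.Agent.Blocks.Local Cfsg.Agent.Blocks.BlockRank
open Cfsg.Agent.H608.BlockRank hiding IsUnion isUnion_of_isPBlock
open Cfsg.Agent.H657 (Above IBr phi ibrUnder IsRU)
open Cfsg.Agent.H741.One (OneC)

universe u

/-- Subgroups of `G` with a central subgroup of order `9`. -/
theorem central_of_nine {G : Type*} [Group G] [Finite G] (P : Sylow 3 G) (hE : IsExtraspecial 3 (P : Subgroup G))
    (h27 : Nat.card (P : Subgroup G) = 27) {H : Type*} [Group H] [Finite H] (f : H →* G) (hf : Function.Injective f)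
    (R : Subgroup H) (hR : Nat.card R = 9) (hRc : R ≤ center H) : ∃ k : ℕ, (pPrimeCore 3 H).index = 3 ^ k := by
  classical
  have : Fact (Nat.Prime 3) := ⟨Nat.prime_three⟩
  have hRp : IsPGroup 3 R := IsPGroup.of_card (n := 2) (by rw [hR]; norm_num)
  obtain ⟨S, hRS⟩ := hRp.exists_le_sylow
  refine H970.CycOne.index_of_central S ?_
  -- the order of `S`
  have hSf : Nat.card (((S : Subgroup H).map f : Subgroup G)) = Nat.card (S : Subgroup H) :=
    Nat.card_congr ((S : Subgroup H).equivMapOfInjective f hf).toEquiv.symm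
  have hSp : IsPGroup 3 ((S : Subgroup H).map f) := S.isPGroup'.map f
  obtain ⟨P', hP'⟩ := hSp.exists_le_sylow
  have hP'27 : Nat.card (P' : Subgroup G) = 27 := by
    rw [← h27]
    exact Nat.card_congr (P'.equiv P).toEquiv
  have h1 : Nat.card (S : Subgroup H) ∣ 27 := by
    rw [← hSf, ← hP'27]
    exact card_dvd_of_le hP'
  have h2 : 9 ∣ Nat.card (S : Subgroup H) := by
    rw [← hR]
    exact card_dvd_of_le hRS
  have h3 : Nat.card (S : Subgroup H) ≤ 27 := Nat.le_of_dvd (by norm_num) h1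
  obtain ⟨d, hd⟩ := h2
  have h4 : d = 1 ∨ d = 3 := by
    rw [hd] at h1 h3
    have : d ≤ 3 := by omega
    interval_cases d <;> omega
  rcases h4 with rfl | rfl
  · -- `S = R`
    have h5 : R = (S : Subgroup H) := by
      apply SetLike.coe_injective
      apply Set.eq_of_subset_of_ncard_le hRS
      rw [← Nat.card_coe_set_eq, ← Nat.card_coe_set_eq]
      exact (hd.trans (by rw [mul_one]; exact hR.symm)).le
    rw [← h5]
    exact hRc
  · -- `S` is isomorphic to `P`
    exfalso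
    have h5 : (S : Subgroup H).map f = (P' : Subgroup G) := by
      apply SetLike.coe_injective
      apply Set.eq_of_subset_of_ncard_le hP'
      rw [← Nat.card_coe_set_eq, ← Nat.card_coe_set_eq]
      exact (hP'27.trans (by rw [show Nat.card ↑(((S : Subgroup H).map f : Subgroup G) : Set G) = 27 from
        hSf.trans hd])).le
    have e : ↥(S : Subgroup H) ≃* ↥(P : Subgroup G) :=
      (((S : Subgroup H).equivMapOfInjective f hf).trans (MulEquiv.subgroupCongr h5)).trans (P'.equiv P)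
    have h6 : Nat.card (center ↥(S : Subgroup H)) = 3 := (Nat.card_congr (centerCongr e).toEquiv).trans hE.2
    have h7 : R.subgroupOf (S : Subgroup H) ≤ center ↥(S : Subgroup H) := by
      intro x hx
      rw [mem_center_iff]
      intro y
      exact Subtype.ext (mem_center_iff.1 (hRc hx) y)
    have h8 := Nat.le_of_dvd Nat.card_pos (card_dvd_of_le h7)
    have h9 : Nat.card (R.subgroupOf (S : Subgroup H)) = 9 := by
      rw [← hR]
      exact Nat.card_congr (subgroupOfEquivOfLe hRS).toEquiv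
    omega

/-- Elements of order `3` of a subgroup of order `3`. -/
theorem eq_or_inv {G : Type*} [Group G] {x y : G} (hy : orderOf y = 3) (hx : x ∈ zpowers y) (hx1 : x ≠ 1) :
    x = y ∨ x = y⁻¹ := by
  obtain ⟨k, rfl⟩ := mem_zpowers_iff.1 hx
  have h3 : y ^ 3 = 1 := by rw [← hy, pow_orderOf_eq_one]
  have h1 := zpow_mod_orderOf y k
  rw [hy] at h1
  have h2 : k % ((3 : ℕ) : ℤ) = 0 ∨ k % ((3 : ℕ) : ℤ) = 1 ∨ k % ((3 : ℕ) : ℤ) = 2 := by
    have := Int.emod_nonneg k (show ((3 : ℕ) : ℤ) ≠ 0 by norm_num)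
    have := Int.emod_lt_of_pos k (show (0 : ℤ) < ((3 : ℕ) : ℤ) by norm_num)
    omega
  rcases h2 with h | h | h
  · rw [h, zpow_zero] at h1
    exact absurd h1.symm hx1
  · rw [h, zpow_one] at h1
    exact Or.inl h1.symm
  · right
    rw [← h1, h]
    have h4 : y ^ (2 : ℤ) * y = 1 := by
      rw [zpow_ofNat, ← pow_succ, h3]
    exact eq_inv_of_mul_eq_one_left h4

/-- Fusion of `3`-regular elements of `C_G(z)` for `9 ∤ |C_G(s)|`. -/
theorem fusion_three {G : Type*} [Group G] [Finite G] {z s g : G} (hz : orderOf z = 3)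
    (hzs : Commute z s) (hzs' : Commute z (g * s * g⁻¹)) (h9 : ¬ 9 ∣ Nat.card (centralizer ({s} : Set G))) :
    ∃ n : G, (n * z * n⁻¹ = z ∨ n * z * n⁻¹ = z⁻¹) ∧ n * s * n⁻¹ = g * s * g⁻¹ := by
  classical
  have : Fact (Nat.Prime 3) := ⟨Nat.prime_three⟩
  set D := centralizer ({s} : Set G) with hD
  have hzD : z ∈ D := mem_centralizer_singleton_iff.2 hzs.eq
  have hz'D : g⁻¹ * z * g ∈ D := by
    rw [hD, mem_centralizer_singleton_iff]
    have h1 := hzs'.eq
    calc g⁻¹ * z * g * s = g⁻¹ * (z * (g * s * g⁻¹)) * g := by group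
      _ = g⁻¹ * (g * s * g⁻¹ * z) * g := by rw [h1]
      _ = s * (g⁻¹ * z * g) := by group
  have hz'3 : orderOf (g⁻¹ * z * g) = 3 := by
    have h1 := MulEquiv.orderOf_eq (MulAut.conj g⁻¹) z
    rw [MulAut.conj_apply, inv_inv] at h1
    rw [h1, hz]
  have hfac : (Nat.card D).factorization 3 = 1 := by
    have h1 : 3 ∣ Nat.card D := by
      have := orderOf_dvd_natCard (⟨z, hzD⟩ : D)
      rwa [← Subgroup.orderOf_coe, show orderOf (((⟨z, hzD⟩ : D) : G)) = 3 from hz] at this
    have h2 : (Nat.card D).factorization 3 < 2 := by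
      by_contra hcon
      push Not at hcon
      apply h9
      exact (Nat.prime_three.pow_dvd_iff_le_factorization Nat.card_pos.ne').2 hcon
    have h3 : 1 ≤ (Nat.card D).factorization 3 :=
      (Nat.prime_three.pow_dvd_iff_le_factorization Nat.card_pos.ne').1 (by rwa [pow_one])
    omega
  have hc : ∀ w : D, orderOf (w : G) = 3 → Nat.card (zpowers w) = 3 ^ (Nat.card D).factorization 3 := by
    intro w hw
    rw [hfac, pow_one, Nat.card_zpowers, ← Subgroup.orderOf_coe, hw]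
  let S1 : Sylow 3 D := Sylow.ofCard (zpowers (⟨z, hzD⟩ : D)) (hc _ hz)
  let S2 : Sylow 3 D := Sylow.ofCard (zpowers (⟨g⁻¹ * z * g, hz'D⟩ : D)) (hc _ hz'3)
  obtain ⟨h, hh⟩ := MulAction.exists_smul_eq D S1 S2
  have h1 : h * ⟨z, hzD⟩ * h⁻¹ ∈ zpowers (⟨g⁻¹ * z * g, hz'D⟩ : D) := by
    have h2 : h * ⟨z, hzD⟩ * h⁻¹ ∈ (h • S1 : Sylow 3 D) :=
      ⟨⟨z, hzD⟩, mem_zpowers (⟨z, hzD⟩ : D), rfl⟩
    rw [hh] at h2
    exact h2
  have h2 : (h : G) * z * (h : G)⁻¹ ∈ zpowers (g⁻¹ * z * g) := by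
    obtain ⟨k, hk⟩ := mem_zpowers_iff.1 h1
    exact mem_zpowers_iff.2 ⟨k, by simpa using congrArg Subtype.val hk⟩
  have h3 : (h : G) * z * (h : G)⁻¹ ≠ 1 := by
    intro h4
    rw [conj_eq_one_iff] at h4
    rw [h4, orderOf_one] at hz
    omega
  have hhs := mem_centralizer_singleton_iff.1 h.2
  refine ⟨g * h, ?_, ?_⟩
  · rcases eq_or_inv hz'3 h2 h3 with h4 | h4
    · left
      calc g * (h : G) * z * (g * (h : G))⁻¹ = g * ((h : G) * z * (h : G)⁻¹) * g⁻¹ := by group
        _ = z := by rw [h4]; group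
    · right
      calc g * (h : G) * z * (g * (h : G))⁻¹ = g * ((h : G) * z * (h : G)⁻¹) * g⁻¹ := by group
        _ = z⁻¹ := by rw [h4]; group
  · calc g * (h : G) * s * (g * (h : G))⁻¹ = g * ((h : G) * s) * (h : G)⁻¹ * g⁻¹ := by group
      _ = g * (s * (h : G)) * (h : G)⁻¹ * g⁻¹ := by rw [hhs]
      _ = g * s * g⁻¹ := by group

/-- The automorphism of `C_G(z)` given by an element which inverts `z`. -/
noncomputable def tau {G : Type*} [Group G] {z n : G} (hn : n * z * n⁻¹ = z⁻¹) :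
    ↥(centralizer ({z} : Set G)) ≃* ↥(centralizer ({z} : Set G)) where
  toFun s := ⟨n * s * n⁻¹, by
    rw [mem_centralizer_singleton_iff]
    have h1 := mem_centralizer_singleton_iff.1 s.2
    have h2 : n * z⁻¹ * n⁻¹ = z := by
      have := congrArg (·⁻¹) hn
      simpa [mul_assoc] using this
    calc n * (s : G) * n⁻¹ * z = n * (s : G) * n⁻¹ * (n * z⁻¹ * n⁻¹) := by rw [h2]
      _ = n * ((s : G) * z⁻¹) * n⁻¹ := by group
      _ = n * (z⁻¹ * (s : G)) * n⁻¹ := by
        rw [show (s : G) * z⁻¹ = z⁻¹ * (s : G) from ((show Commute (s : G) z from h1).inv_right).eq]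
      _ = (n * z⁻¹ * n⁻¹) * (n * (s : G) * n⁻¹) := by group
      _ = z * (n * (s : G) * n⁻¹) := by rw [h2]⟩
  invFun s := ⟨n⁻¹ * s * n, by
    rw [mem_centralizer_singleton_iff]
    have h1 := mem_centralizer_singleton_iff.1 s.2
    have h2 : n⁻¹ * z⁻¹ * n = z := by rw [← hn]; group
    calc n⁻¹ * (s : G) * n * z = n⁻¹ * (s : G) * n * (n⁻¹ * z⁻¹ * n) := by rw [h2]
      _ = n⁻¹ * ((s : G) * z⁻¹) * n := by group
      _ = n⁻¹ * (z⁻¹ * (s : G)) * n := by
        rw [show (s : G) * z⁻¹ = z⁻¹ * (s : G) from ((show Commute (s : G) z from h1).inv_right).eq]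
      _ = (n⁻¹ * z⁻¹ * n) * (n⁻¹ * (s : G) * n) := by group
      _ = z * (n⁻¹ * (s : G) * n) := by rw [h2]⟩
  left_inv s := Subtype.ext (by
    show n⁻¹ * (n * (s : G) * n⁻¹) * n = s
    group)
  right_inv s := Subtype.ext (by
    show n * (n⁻¹ * (s : G) * n) * n⁻¹ = s
    group)
  map_mul' s t := Subtype.ext (by
    show n * ((s : G) * (t : G)) * n⁻¹ = (n * (s : G) * n⁻¹) * (n * (t : G) * n⁻¹)
    group)

theorem tau_coe {G : Type*} [Group G] {z n : G} (hn : n * z * n⁻¹ = z⁻¹) (s : ↥(centralizer ({z} : Set G))) :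
    ((tau hn s : ↥(centralizer ({z} : Set G))) : G) = n * s * n⁻¹ := rfl

/-- Invariance under the normalizer. -/
theorem sum_inv {G : Type*} [Group G] {z n₀ : G} (hn₀ : n₀ * z * n₀⁻¹ = z⁻¹)
    {φ : ↥(centralizer ({z} : Set G)) → ℂ} (hφ : IsClassFunction ↥(centralizer ({z} : Set G)) φ) {n : G}
    (hn : n * z * n⁻¹ = z ∨ n * z * n⁻¹ = z⁻¹) {s s' : ↥(centralizer ({z} : Set G))}
    (h : (s' : G) = n * s * n⁻¹) : φ s' + φ (tau hn₀ s') = φ s + φ (tau hn₀ s) := by
  have h2 : n₀ * z⁻¹ * n₀⁻¹ = z := by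
    have := congrArg (·⁻¹) hn₀
    simpa [mul_assoc] using this
  have h3 : n₀⁻¹ * z * n₀ = z⁻¹ := by
    calc n₀⁻¹ * z * n₀ = n₀⁻¹ * (n₀ * z⁻¹ * n₀⁻¹) * n₀ := by rw [h2]
      _ = z⁻¹ := by group
  rcases hn with hn | hn
  · have h1 : n ∈ centralizer ({z} : Set G) := by
      rw [mem_centralizer_singleton_iff]
      calc n * z = n * z * n⁻¹ * n := by group
        _ = z * n := by rw [hn]
    have h4 : s' = ⟨n, h1⟩ * s * (⟨n, h1⟩ : ↥(centralizer ({z} : Set G)))⁻¹ := Subtype.ext h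
    rw [h4, map_mul, map_mul, map_inv, hφ, hφ]
  · have h1 : n * n₀⁻¹ ∈ centralizer ({z} : Set G) := by
      rw [mem_centralizer_singleton_iff]
      calc n * n₀⁻¹ * z = n * (n₀⁻¹ * z * n₀) * n₀⁻¹ := by group
        _ = (n * z * n⁻¹)⁻¹ * (n * n₀⁻¹) := by rw [h3]; group
        _ = z * (n * n₀⁻¹) := by rw [hn, inv_inv]
    have h5 : n₀ * n₀ ∈ centralizer ({z} : Set G) := by
      rw [mem_centralizer_singleton_iff]
      calc n₀ * n₀ * z = n₀ * (n₀ * z * n₀⁻¹) * n₀⁻¹ * (n₀ * n₀) := by group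
        _ = z * (n₀ * n₀) := by rw [hn₀, h2]
    have h4 : s' = ⟨n * n₀⁻¹, h1⟩ * tau hn₀ s * (⟨n * n₀⁻¹, h1⟩ : ↥(centralizer ({z} : Set G)))⁻¹ :=
      Subtype.ext (by
        show (s' : G) = n * n₀⁻¹ * (n₀ * s * n₀⁻¹) * (n * n₀⁻¹)⁻¹
        rw [h]
        group)
    have h6 : tau hn₀ (tau hn₀ s) = ⟨n₀ * n₀, h5⟩ * s * (⟨n₀ * n₀, h5⟩ : ↥(centralizer ({z} : Set G)))⁻¹ :=
      Subtype.ext (by
        show n₀ * (n₀ * s * n₀⁻¹) * n₀⁻¹ = n₀ * n₀ * s * (n₀ * n₀)⁻¹
        group)
    rw [h4, map_mul, map_mul, map_inv, hφ, hφ, h6, hφ, add_comm]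

theorem inj_three {α : Type*} {a b c : α} (h01 : a ≠ b) (h02 : a ≠ c) (h12 : b ≠ c) :
    Function.Injective ![a, b, c] := by
  intro x y h
  fin_cases x <;> fin_cases y <;>
    first
    | rfl
    | exact absurd h h01
    | exact absurd h.symm h01
    | exact absurd h h02
    | exact absurd h.symm h02
    | exact absurd h h12
    | exact absurd h.symm h12

theorem ne_three {α : Type*} {a b c : α} {σ : α → α} (hσ : ∀ i, σ (σ i) = i) (h01 : a ≠ σ b) (h02 : a ≠ σ c)
    (h12 : b ≠ σ c) : ∀ x y : Fin 3, x ≠ y → (![a, b, c] : Fin 3 → α) x ≠ σ ((![a, b, c] : Fin 3 → α) y) := by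
  intro x y hxy h
  have hs : ∀ u v, u = σ v → v = σ u := fun u v h => by rw [h, hσ]
  fin_cases x <;> fin_cases y <;>
    first
    | exact hxy rfl
    | exact h01 h
    | exact h01 (hs _ _ h)
    | exact h02 h
    | exact h02 (hs _ _ h)
    | exact h12 h
    | exact h12 (hs _ _ h)

/-- The case `4 ≤ l(B₀(C_G(z)))`. -/
theorem e27_aux {M : Ideal AlgInt} (hM : IsPModular 3 M) {G : Type u} [Group G] [Finite G] (P : Sylow 3 G)
    (hE : IsExtraspecial 3 (P : Subgroup G)) (h27 : Nat.card (P : Subgroup G) = 27) {z n₀ : G}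
    (hz3 : orderOf z = 3) (hn₀ : n₀ * z * n₀⁻¹ = z⁻¹)
    (hc : 4 ≤ blockRank 3 (principalBlock M ↥(centralizer ({z} : Set G)))) :
    3 ≤ blockRank 3 (principalBlock M G) := by
  classical
  have : Fact (Nat.Prime 3) := ⟨Nat.prime_three⟩
  have hMp : M.IsPrime := isPrime_of_isPModular hM
  obtain ⟨V, hV⟩ := H657.exists_above hM
  have hch : CharP (ResidueField V) 3 := hV.charP hM
  set C := centralizer ({z} : Set G) with hCdef
  set τ : ↥C ≃* ↥C := tau hn₀ with hτ
  have hBC : H608.BlockRank.IsUnion M (principalBlock M ↥C) := Cfsg.Agent.H608.BlockRank.isUnion_of_isPBlock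
      Cfsg.Agent.Blocks.PrincipalSection.isPBlock_principalBlock
  rw [H657.blockRank_eq_card hM hV hBC] at hc
  -- the involution on the Brauer characters
  let σ : IBr V ↥C → IBr V ↥C := ibrComp τ
  have hσσ : ∀ i, σ (σ i) = i := by
    intro i
    apply Subtype.ext
    funext s
    show i.1 (τ (τ s)) = i.1 s
    have h2 : n₀ * z⁻¹ * n₀⁻¹ = z := by
      have := congrArg (·⁻¹) hn₀
      simpa [mul_assoc] using this
    have h5 : n₀ * n₀ ∈ C := by
      rw [hCdef, mem_centralizer_singleton_iff]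
      calc n₀ * n₀ * z = n₀ * (n₀ * z * n₀⁻¹) * n₀⁻¹ * (n₀ * n₀) := by group
        _ = z * (n₀ * n₀) := by rw [hn₀, h2]
    have h6 : τ (τ s) = ⟨n₀ * n₀, h5⟩ * s * (⟨n₀ * n₀, h5⟩ : ↥C)⁻¹ :=
      Subtype.ext (by
        show n₀ * (n₀ * s * n₀⁻¹) * n₀⁻¹ = n₀ * n₀ * s * (n₀ * n₀)⁻¹
        group)
    rw [h6, ibr_conj]
  have hσt : σ Cfsg.Agent.H597.BrInv.triv = Cfsg.Agent.H597.BrInv.triv := rfl
  -- the indices
  have hex : ∀ T : Finset (IBr V ↥C), T.card ≤ 3 → ∃ i ∈ ibrUnder V (principalBlock M ↥C), i ∉ T := by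
    intro T hT
    by_contra hcon
    push Not at hcon
    have h1 : Nat.card (ibrUnder V (principalBlock M ↥C)) ≤ T.card := by
      rw [Nat.card_coe_set_eq, ← Set.ncard_coe_finset]
      exact Set.ncard_le_ncard hcon (Finset.finite_toSet T)
    omega
  set i₀ : IBr V ↥C := Cfsg.Agent.H597.BrInv.triv with hi₀
  obtain ⟨i₁, hi₁, hi₁'⟩ := hex {i₀} (by simp)
  obtain ⟨i₂, hi₂, hi₂'⟩ := hex {i₀, i₁, σ i₁} (Finset.card_le_three)
  simp only [Finset.mem_singleton] at hi₁'
  simp only [Finset.mem_insert, Finset.mem_singleton, not_or] at hi₂'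
  obtain ⟨h20, h21, h21'⟩ := hi₂'
  let j : Fin 3 → IBr V ↥C := ![i₀, i₁, i₂]
  have hσinj : ∀ a b, σ a = b → a = σ b := fun a b h => by rw [← h, hσσ]
  have h01 : i₀ ≠ i₁ := Ne.symm hi₁'
  have h02 : i₀ ≠ i₂ := Ne.symm h20
  have h12 : i₁ ≠ i₂ := Ne.symm h21
  have hs1 : i₀ ≠ σ i₁ := fun h => hi₁' (by rw [hσinj _ _ h.symm, hσt])
  have hs2 : i₀ ≠ σ i₂ := fun h => h20 (by rw [hσinj _ _ h.symm, hσt])
  have hs3 : i₁ ≠ σ i₂ := fun h => h21' (hσinj _ _ h.symm)
  have hjinj : Function.Injective j := inj_three h01 h02 h12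
  have hj2 : ∀ a b, a ≠ b → j a ≠ σ (j b) := ne_three hσσ hs1 hs2 hs3
  have hjS : ∀ a, j a ∈ ibrUnder V (principalBlock M ↥C) := by
    intro a
    fin_cases a
    · exact triv_mem hM hV
    · exact hi₁
    · exact hi₂
  let f : Fin 3 → ↥C → ℂ := fun a s => phi 3 (j a) s + phi 3 (j a) (τ s)
  have hfl : ∀ a x, MemLocalRing M (f a x) := fun a x => memLocalRing_add (phi_local _ _) (phi_local _ _)
  have hfB : ∀ a, f a ∈ (charSpan (principalBlock M ↥C)).map (pReg 3) := by
    intro a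
    have h1 : phi 3 (j a) ∈ (charSpan (principalBlock M ↥C)).map (pReg 3) := by
      rw [H657.map_pReg_charSpan hM hV hBC]
      exact Submodule.subset_span ⟨_, hjS a, rfl⟩
    exact Submodule.add_mem _ h1 (comp_mem τ h1)
  have hcl : ∀ a, IsClassFunction ↥C (phi 3 (j a)) := fun a => H657.phi_isClassFunction 3 _
  have hCz : C = centralizer ((zpowers z : Subgroup G) : Set G) := by
    rw [zpowers_eq_closure, centralizer_closure]
  have hzp : IsPGroup 3 ↥(zpowers z) := IsPGroup.of_card (n := 1) (by rw [Nat.card_zpowers, hz3, pow_one])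
  -- large centralizers
  have hlarge : ∀ a (s : ↥C), ¬ 3 ∣ orderOf s → 9 ∣ Nat.card ↥(centralizer ({(s : G)} : Set G)) →
      redC M (f a s) = redC M (f a 1) := by
    intro a s hs h9
    have hsz := mem_centralizer_singleton_iff.1 s.2
    set D := centralizer ({(s : G)} : Set G) with hD
    have hzD : z ∈ D := mem_centralizer_singleton_iff.2 hsz.symm
    obtain ⟨K, hK9, hzK⟩ := Sylow.exists_subgroup_card_pow_prime_le 3 (n := 1) (m := 2)
      (G := ↥D) (by norm_num; exact h9) (zpowers (⟨z, hzD⟩ : ↥D))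
      (by rw [Nat.card_zpowers, ← Subgroup.orderOf_coe, pow_one]; exact hz3) (by norm_num)
    have hKc := IsPGroup.commutative_of_card_eq_prime_sq hK9
    have hKC : K.map D.subtype ≤ C := by
      rintro _ ⟨k, hk, rfl⟩
      rw [hCdef, mem_centralizer_singleton_iff]
      have h1 := hKc ⟨k, hk⟩ ⟨_, hzK (mem_zpowers _)⟩
      exact congrArg (fun w : K => ((w : ↥D) : G)) h1
    set R : Subgroup ↥C := (K.map D.subtype).subgroupOf C with hR
    have hR9 : Nat.card R = 9 := by
      rw [hR, Nat.card_congr (subgroupOfEquivOfLe hKC).toEquiv,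
        Nat.card_congr (K.equivMapOfInjective D.subtype D.subtype_injective).toEquiv.symm, hK9]
      norm_num
    have hRp : IsPGroup 3 ↥R := IsPGroup.of_card (n := 2) (by rw [hR9]; norm_num)
    have hRR : R ≤ centralizer (R : Set ↥C) := by
      intro x hx
      rw [mem_centralizer_iff]
      intro y hy
      obtain ⟨k, hk, hkx⟩ := hx
      obtain ⟨l, hl, hly⟩ := hy
      apply Subtype.ext
      show (y : G) * (x : G) = (x : G) * (y : G)
      rw [show (x : G) = ((k : ↥D) : G) from hkx.symm, show (y : G) = ((l : ↥D) : G) from hly.symm]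
      exact congrArg (fun w : K => ((w : ↥D) : G)) (hKc ⟨l, hl⟩ ⟨k, hk⟩)
    have hnc := central_of_nine P hE h27 (H := ↥(centralizer (R : Set ↥C)))
      (C.subtype.comp (centralizer (R : Set ↥C)).subtype)
      (C.subtype_injective.comp (centralizer (R : Set ↥C)).subtype_injective) (R.subgroupOf (centralizer (R : Set ↥C)))
      (by rw [Nat.card_congr (subgroupOfEquivOfLe hRR).toEquiv, hR9]) (by
        intro x hx
        rw [mem_center_iff]
        intro y
        exact Subtype.ext (mem_centralizer_iff.1 y.2 _ hx).symm)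
    refine const_of_central hM R hRp hnc (hfl a) (hfB a) ?_ hs
    rw [mem_centralizer_iff]
    rintro y ⟨k, hk, hky⟩
    apply Subtype.ext
    show (y : G) * (s : G) = (s : G) * (y : G)
    rw [show (y : G) = ((k : ↥D) : G) from hky.symm]
    exact mem_centralizer_singleton_iff.1 k.2
  refine stabU hM (zpowers z) hzp C hCz f hfl hfB ?_ ?_
  · intro a s s' hs hss
    obtain ⟨g, hg⟩ := isConj_iff.1 hss
    by_cases h9 : 9 ∣ Nat.card ↥(centralizer ({(s : G)} : Set G))
    · rw [hlarge a s hs h9]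
      refine (hlarge a s' ?_ ?_).symm
      · rw [← Subgroup.orderOf_coe] at hs ⊢
        rw [← hg]
        rwa [show orderOf (g * (s : G) * g⁻¹) = orderOf (s : G) from
          MulEquiv.orderOf_eq (MulAut.conj g) (s : G)]
      · have h1 := H649.centralizer_singleton_map (MulAut.conj g) (s : G)
        rw [MulAut.conj_apply, hg] at h1
        rw [h1, Nat.card_congr ((centralizer ({(s : G)} : Set G)).equivMapOfInjective _
          (MulAut.conj g).injective).toEquiv.symm]
        exact h9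
    · have h1 := (mem_centralizer_singleton_iff.1 s.2).symm
      have h2 := (mem_centralizer_singleton_iff.1 s'.2).symm
      obtain ⟨n, hn1, hn2⟩ := fusion_three (g := g) hz3 (show Commute z (s : G) from h1)
        (show Commute z (g * (s : G) * g⁻¹) by rw [hg]; exact h2) h9
      have h3 := sum_inv hn₀ (hcl a) hn1 (s := s) (s' := s') (by rw [hn2, hg])
      show redC M (phi 3 (j a) s + phi 3 (j a) (τ s)) = redC M (phi 3 (j a) s' + phi 3 (j a) (τ s'))
      rw [← h3]
  · refine indep_V hM hV _ (fun a x => hfl a _) (fun a s => (j a).1 (s : ↥C) + (j a).1 (τ (s : ↥C))) ?_ ?_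
    · intro a s
      have hs : IsPRegular 3 (s : ↥C) := s.2
      have hs' : IsPRegular 3 (τ (s : ↥C)) := by
        unfold IsPRegular
        rw [MulEquiv.orderOf_eq]
        exact s.2
      obtain ⟨z1, h1, h2⟩ := H657.phi_spec (p := 3) (j a) hs
      obtain ⟨z2, h3, h4⟩ := H657.phi_spec (p := 3) (j a) hs'
      refine ⟨z1 + z2, ?_, ?_⟩
      · show ((z1 + z2 : V) : ℂ) = phi 3 (j a) s + phi 3 (j a) (τ s)
        rw [h1, h3]
        rfl
      · rw [map_add, h2, h4]
    · have hind := orbit_indep (K := ResidueField V) (e := fun i : IBr V ↥C => (i.1 : ↥C → ResidueField V))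
        (by
          have h1 : ((2 : ℕ) : ResidueField V) ≠ 0 := by
            intro h
            have := (CharP.cast_eq_zero_iff (ResidueField V) 3 2).1 h
            omega
          simpa using h1) H657.linearIndependent_ibr σ j hjinj hj2
      rw [Fintype.linearIndependent_iff] at hind ⊢
      intro a ha k
      refine hind a ?_ k
      funext g
      obtain ⟨x, y, hxy, hcomm, ⟨k, hk⟩, hy⟩ := Blocks.PPart.exists_isPPart 3 g
      have hx : x ^ 3 ^ k = 1 := by rw [← hk, pow_orderOf_eq_one]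
      have h1 := congrFun ha ⟨y, hy⟩
      rw [Finset.sum_apply, Pi.zero_apply] at h1 ⊢
      rw [← h1]
      refine Finset.sum_congr rfl fun b _ => ?_
      rw [Pi.smul_apply, Pi.smul_apply, Pi.add_apply, ← hxy]
      show a b • ((j b).1 (x * y) + (σ (j b)).1 (x * y)) = a b • ((j b).1 y + (σ (j b)).1 y)
      rw [H657.ibr_apply_pPart (j b) hcomm hx, H657.ibr_apply_pPart (σ (j b)) hcomm hx]

/-- **Extraspecial Sylow `3`-subgroups of order `27`.** -/
theorem e27_row {M : Ideal AlgInt} (hM : IsPModular 3 M) {G : Type u} [Group G] [Finite G] (P : Sylow 3 G)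
    (hE : IsExtraspecial 3 (P : Subgroup G)) (h27 : Nat.card (P : Subgroup G) = 27) (hconj : OneC 3 G) :
    3 ≤ blockRank 3 (principalBlock M G) := by
  classical
  have : Fact (Nat.Prime 3) := ⟨Nat.prime_three⟩
  have hMp : M.IsPrime := isPrime_of_isPModular hM
  obtain ⟨z, hzP, hz1, hzc⟩ := H657.E27Main.exists_central hE
  have hz3 : orderOf z = 3 := by
    have h1 : (⟨z, hzP⟩ : (P : Subgroup G)) ∈ center (P : Subgroup G) := by
      rw [mem_center_iff]
      intro y
      exact Subtype.ext (hzc y y.2).symm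
    have h2 := orderOf_dvd_natCard (⟨_, h1⟩ : center (P : Subgroup G))
    rw [hE.2, ← Subgroup.orderOf_coe, ← Subgroup.orderOf_coe] at h2
    rcases (Nat.dvd_prime Nat.prime_three).1 h2 with h3 | h3
    · exact absurd (orderOf_eq_one_iff.1 h3) hz1
    · exact h3
  have hzz : z ^ 3 = 1 := by rw [← hz3, pow_orderOf_eq_one]
  have h9 : 3 ^ 2 ∣ Nat.card G := by
    refine Dvd.dvd.trans ?_ (card_subgroup_dvd_card (P : Subgroup G))
    rw [h27]
    norm_num
  have hk0 := H774.K0.six_le_card (by norm_num) hM h9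
  have hk : 6 ≤ Nat.card (principalBlock M G) := by
    refine hk0.trans ?_
    have := Cfsg.Agent.Characters.Core.finite_irr (G := G)
    exact Nat.card_le_card_of_injective (fun χ => (⟨χ.1, χ.2.1⟩ : principalBlock M G))
      (fun a b h => Subtype.ext (congrArg (fun x : principalBlock M G => (x : IrrCharacter G)) h))
  have hkl := H696.LB.card_eq_of_one hM hconj hz1 ⟨1, by rw [hz3, pow_one]⟩
  by_cases hc : blockRank 3 (principalBlock M ↥(centralizer ({z} : Set G))) ≤ 3
  · omega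
  push Not at hc
  -- the automorphism
  obtain ⟨n₀, hn₀⟩ := isConj_iff.1 (hconj z z⁻¹ hz1 (inv_ne_one.2 hz1) ⟨1, by rw [hz3, pow_one]⟩
    ⟨1, by rw [orderOf_inv, hz3, pow_one]⟩)
  exact e27_aux hM P hE h27 hz3 hn₀ hc

end Cfsg.Agent.H319.LB
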