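import Cfsg.Agent.H319.LB.StabU
import Cfsg.Agent.H597.BrInv
import Cfsg.Agent.H649.Transport

/-!
# Brauer characters and automorphisms (S4879, helper319)

* `phi_local` : the values of Brauer characters are local;
* `ibrComp e i` : the composite of `i : IBr V G` with an automorphism `e`;
* `comp_mem` : the span of `B₀` on `p`-regular elements is stable under automorphisms;
* `triv_mem` : the trivial character is under the principal block;
* `orbit_indep` : orbit sums of an involution are linearly independent.
-/

set_option autoImplicit false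
set_option linter.unusedSectionVars false

namespace Cfsg.Agent.H319.LB

open Cfsg Subgroup Module IsLocalRing
open Cfsg.Agent.H644 Cfsg.Agent.Blocks.Local Cfsg.Agent.Blocks.BlockRank
open Cfsg.Agent.H608.BlockRank hiding IsUnion isUnion_of_isPBlock
open Cfsg.Agent.H657 (Above IBr phi ibrUnder IsRU)

universe u

variable {p : ℕ} [hp : Fact p.Prime] {M : Ideal AlgInt} {V : ValuationSubring ℂ}

theorem isIntegral_of_ru {z : ℂ} (h : IsRU p z) : IsIntegral ℤ z := by
  obtain ⟨m, hm, hz⟩ := h
  have hm0 : 0 < m := Nat.pos_of_ne_zero fun h0 => hm (h0 ▸ dvd_zero p)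
  exact IsIntegral.of_pow hm0 (by rw [hz]; exact isIntegral_one)

theorem bc_local [M.IsPrime] [CharP (ResidueField V) p] {G : Type*} [Group G] {W : Type*}
    [AddCommGroup W] [Module (ResidueField V) W] [FiniteDimensional (ResidueField V) W]
    (σ : Representation (ResidueField V) G W) {g : G} (hg : ¬ p ∣ orderOf g) :
    MemLocalRing M (Cfsg.Agent.H657.bc p σ g) := by
  have h1 : ∀ s : Multiset (ResidueField V), (∀ r ∈ s, IsRU p r) →
      IsIntegral ℤ (s.map (Cfsg.Agent.H657.lift p)).sum := by
    intro s
    induction s using Multiset.induction_on with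
    | empty => exact fun _ => by simpa using isIntegral_zero
    | cons a s ih =>
      intro h
      obtain ⟨w, hw, -, hw2⟩ := Cfsg.Agent.H657.lift_spec (h a (Multiset.mem_cons_self a s))
      rw [Multiset.map_cons, Multiset.sum_cons, hw2]
      exact (isIntegral_of_ru hw).add (ih fun r hr => h r (Multiset.mem_cons_of_mem hr))
  exact memLocalRing_of_isIntegral (h1 _ fun r hr => Cfsg.Agent.H657.root_isRU σ hg hr)

theorem phi_local [M.IsPrime] [CharP (ResidueField V) p] {G : Type*} [Group G] (i : IBr V G) (g : G) :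
    MemLocalRing M (phi p i g) := by
  by_cases hg : IsPRegular p g
  · rw [Cfsg.Agent.H657.phi_of i hg]
    exact bc_local _ hg
  · rw [Cfsg.Agent.H657.phi_of_not i hg]
    exact memLocalRing_zero

theorem isIrr_repComp {K : Type*} [Field K] {W : Type*} [AddCommGroup W] [Module K W] {G : Type*} [Group G]
    (ρ : Representation K G W) (hρ : ρ.IsIrreducible) (e : G ≃* G) :
    Representation.IsIrreducible (ρ.comp e.toMonoidHom : Representation K G W) := by
  have hnt : Nontrivial (Subrepresentation (ρ.comp e.toMonoidHom : Representation K G W)) := by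
    obtain ⟨a, b, hab⟩ := hρ.toNontrivial
    refine ⟨⟨a.toSubmodule, fun g v hv => a.apply_mem_toSubmodule (e g) hv⟩,
      ⟨b.toSubmodule, fun g v hv => b.apply_mem_toSubmodule (e g) hv⟩, fun h => hab ?_⟩
    apply Subrepresentation.toSubmodule_injective
    exact congrArg (Subrepresentation.toSubmodule (ρ := (ρ.comp e.toMonoidHom : Representation K G W))) h
  refine ⟨fun a => ?_⟩
  have key : ∀ (g : G) ⦃v : W⦄, v ∈ a.toSubmodule → ρ g v ∈ a.toSubmodule := by
    intro g v hv
    obtain ⟨h, rfl⟩ := e.surjective g
    exact a.apply_mem_toSubmodule h hv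
  rcases hρ.eq_bot_or_eq_top ⟨a.toSubmodule, key⟩ with h | h
  · left
    apply Subrepresentation.toSubmodule_injective
    exact congrArg (Subrepresentation.toSubmodule (ρ := ρ)) h
  · right
    apply Subrepresentation.toSubmodule_injective
    exact congrArg (Subrepresentation.toSubmodule (ρ := ρ)) h

/-- Composite with an automorphism. -/
noncomputable def ibrComp {G : Type*} [Group G] (e : G ≃* G) (i : IBr V G) : IBr V G :=
  ⟨fun g => i.1 (e g), i.deg, (i.rep.comp e.toMonoidHom : Representation _ G _), isIrr_repComp _ i.rep_irr e,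
    fun g => i.trace_rep (e g)⟩

theorem ibrComp_val {G : Type*} [Group G] (e : G ≃* G) (i : IBr V G) (g : G) :
    (ibrComp e i).1 g = i.1 (e g) := rfl

theorem ibr_conj {G : Type*} [Group G] (i : IBr V G) (h g : G) : i.1 (h * g * h⁻¹) = i.1 g := by
  rw [← i.trace_rep, ← i.trace_rep, mul_assoc, map_mul, LinearMap.trace_mul_comm, ← map_mul, mul_assoc,
    inv_mul_cancel, mul_one]

theorem comp_mem {G : Type*} [Group G] [Finite G] (e : G ≃* G) {f : G → ℂ}
    (hf : f ∈ (charSpan (principalBlock M G)).map (pReg p)) :
    (fun g => f (e g)) ∈ (charSpan (principalBlock M G)).map (pReg p) := by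
  obtain ⟨u, hu, rfl⟩ := hf
  refine ⟨fun g => u (e g), ?_, ?_⟩
  · unfold charSpan at hu ⊢
    induction hu using Submodule.span_induction with
    | mem x hx =>
      obtain ⟨χ, hχ, rfl⟩ := hx
      refine Submodule.subset_span ⟨H649.irrMap e.symm χ, ?_, ?_⟩
      · rw [← H649.blkMap_principalBlock e.symm]
        exact H649.irrMap_mem_blkMap.2 hχ
      · rfl
    | zero => exact Submodule.zero_mem _
    | add x y _ _ hx hy => exact Submodule.add_mem _ hx hy
    | smul c x _ hx => exact Submodule.smul_mem _ c hx
  · funext g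
    have hreg : IsPRegular p (e g) ↔ IsPRegular p g := by
      unfold IsPRegular
      rw [MulEquiv.orderOf_eq]
    by_cases hg : IsPRegular p g
    · rw [pReg_of hg, pReg_of (hreg.2 hg)]
    · rw [pReg_of_not hg, pReg_of_not (fun h => hg (hreg.1 h))]

theorem phi_triv [CharP (ResidueField V) p] {G : Type*} [Group G] :
    phi p (Cfsg.Agent.H597.BrInv.triv : IBr V G) = pReg p (fun _ : G => (1 : ℂ)) := by
  funext g
  by_cases hg : IsPRegular p g
  · obtain ⟨h1, h2⟩ := Cfsg.Agent.H597.BrInv.triv_of_trace (Cfsg.Agent.H597.BrInv.triv : IBr V G).rep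
      (Cfsg.Agent.H597.BrInv.triv : IBr V G).rep_irr (fun g => (Cfsg.Agent.H597.BrInv.triv : IBr V G).trace_rep g)
    rw [Cfsg.Agent.H657.phi_of _ hg, pReg_of hg]
    exact Cfsg.Agent.H597.BrInv.bc_one _ h1 (h2 g)
  · rw [Cfsg.Agent.H657.phi_of_not _ hg, pReg_of_not hg]

theorem triv_mem (hM : IsPModular p M) (hV : Above M V) {G : Type*} [Group G] [Finite G] :
    (Cfsg.Agent.H597.BrInv.triv : IBr V G) ∈ ibrUnder V (principalBlock M G) := by
  have : M.IsPrime := isPrime_of_isPModular hM
  have : CharP (ResidueField V) p := hV.charP hM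
  by_contra hcon
  have h2 : phi p (Cfsg.Agent.H597.BrInv.triv : IBr V G) ∈
      Submodule.span ℂ (phi p '' ibrUnder V (principalBlock M G)) := by
    rw [← Cfsg.Agent.H657.map_pReg_charSpan hM hV (Cfsg.Agent.H608.BlockRank.isUnion_of_isPBlock
      Cfsg.Agent.Blocks.PrincipalSection.isPBlock_principalBlock), phi_triv]
    refine ⟨_, Submodule.subset_span ⟨⟨fun _ => 1, Cfsg.Agent.Blocks.Basic.isIrrCharacter_one⟩,
      Cfsg.Agent.Blocks.PrincipalSection.one_mem_principalBlock, rfl⟩, rfl⟩
  exact (Cfsg.Agent.H657.linearIndependent_phi (V := V) (G := G) (p := p)).notMem_span_image hcon h2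

/-- Orbit sums of an involution. -/
theorem orbit_indep {K W ι κ : Type*} [Field K] [AddCommGroup W] [Module K W] (h2 : (2 : K) ≠ 0) {e : ι → W}
    (he : LinearIndependent K e) (σ : ι → ι) [Finite κ] (j : κ → ι)
    (hj : Function.Injective j) (hj2 : ∀ a b, a ≠ b → j a ≠ σ (j b)) :
    LinearIndependent K (fun k => e (j k) + e (σ (j k))) := by
  classical
  have := Fintype.ofFinite κ
  rw [Fintype.linearIndependent_iff]
  intro a ha k
  rw [linearIndependent_iff] at he
  have h1 := he (∑ k, a k • (Finsupp.single (j k) 1 + Finsupp.single (σ (j k)) 1)) ?_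
  · have h3 := DFunLike.congr_fun h1 (j k)
    rw [Finsupp.finsetSum_apply, Finset.sum_eq_single k] at h3
    · rw [Finsupp.smul_apply, Finsupp.add_apply, Finsupp.single_eq_same, Finsupp.zero_apply, smul_eq_mul] at h3
      rcases mul_eq_zero.1 h3 with h4 | h4
      · exact h4
      · exfalso
        by_cases h5 : σ (j k) = j k
        · rw [h5, Finsupp.single_eq_same, one_add_one_eq_two] at h4
          exact h2 h4
        · rw [Finsupp.single_eq_of_ne (Ne.symm h5), add_zero] at h4
          exact one_ne_zero h4
    · intro b _ hb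
      rw [Finsupp.smul_apply, Finsupp.add_apply, Finsupp.single_eq_of_ne (fun h => hb (hj h).symm),
        Finsupp.single_eq_of_ne (hj2 k b (Ne.symm hb)), add_zero, smul_zero]
    · intro h
      exact absurd (Finset.mem_univ _) h
  · rw [map_sum, ← ha]
    refine Finset.sum_congr rfl fun k _ => ?_
    rw [map_smul, map_add, Finsupp.linearCombination_single, Finsupp.linearCombination_single, one_smul, one_smul]

end Cfsg.Agent.H319.LB
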