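import Cfsg.Agent.H319.LB.Three
import Cfsg.Agent.H185.LB.ON
import Cfsg.Agent.H243.LB.PslRow
import Cfsg.Agent.S4605
import Cfsg.Agent.S0000

/-!
# S4879, `p = 3`: the almost simple groups (helper319)
-/

set_option autoImplicit false

namespace Cfsg.Agent.H319.LB

open Cfsg Subgroup

universe u

local instance fact_three' : Fact (Nat.Prime 3) := ⟨Nat.prime_three⟩

theorem rowPslThree {M : Ideal AlgInt} (hM : IsPModular 3 M) : H271.LB.RowPslThree.{u} M := by
  intro G _ _ hconj T _ hTC hTp F _ _ n hF h2 h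
  obtain ⟨e⟩ := h
  exact H243.LB.psl2_row hM hconj T hTC hTp hF h2 le_rfl e

theorem sylThree : H271.LB.SylThree.{u} :=
  fun _ _ _ h P => (S4605.result 3 h P).imp id (fun h => ⟨h.2.1, by simpa using h.2.2.1⟩)

/-- **`RowAS` for `p = 3`.** -/
theorem rowAS_three {M : Ideal AlgInt} (hM : IsPModular 3 M) : RowAS.{u} 3 M :=
  rowAS_three_of hM sylThree (fun _ _ _ _ => S0000.result) (rowPslThree hM) (fun _ _ _ T _ e => H185.LB.on_row hM T e)

end Cfsg.Agent.H319.LB
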