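import Cfsg.Agent.H319.LB.Stab
import Cfsg.Agent.H657.IBrBlock

/-!
# Stable functions in the principal block of a centralizer (S4879, helper319)

`C = C_G(Q)`, `Q` a `p`-subgroup:
* `stabU` : `m` functions in the span of `B₀(C)` on `p`-regular elements, `G`-stable modulo `M`, independent modulo
  `M`: `m ≤ l(B₀(G))`;
* `indep_V` : independence modulo `M` from independence modulo `V`;
* `const_of_central` : if `C_C(R)` has a normal `p`-complement then the functions of the span of `B₀(C)` are constant
  modulo `M` on the `p`-regular elements of `C_C(R)`.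
-/

set_option autoImplicit false
set_option linter.unusedSectionVars false

namespace Cfsg.Agent.H319.LB

open Cfsg Subgroup Module IsLocalRing
open Cfsg.Agent.H644 Cfsg.Agent.Blocks.Local Cfsg.Agent.Blocks.BlockRank
open Cfsg.Agent.H608.BlockRank hiding IsUnion isUnion_of_isPBlock
open Cfsg.Agent.Characters.Core (finite_irr)
open Cfsg.Agent.H657 (Above IBr phi ibrUnder)

universe u

variable {p : ℕ} [hp : Fact p.Prime] {M : Ideal AlgInt}

theorem map_pReg_le' (hM : IsPModular p M) {H : Type u} [Group H] [Finite H] :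
    (charSpan (principalBlock M H)).map (pReg p) ≤ charSpan (principalBlock M H) := by
  have hMp : M.IsPrime := isPrime_of_isPModular hM
  exact map_pReg_le hM (fun χ ψ h h' => (isUnion_of_isPBlock
    Cfsg.Agent.Blocks.PrincipalSection.isPBlock_principalBlock) χ h' ψ h)

/-- `e_B f = f` for `f` in the span of `B`. -/
theorem blockOp_of_mem {H : Type u} [Group H] [Fintype H] {B : Set (IrrCharacter H)} {f : H → ℂ}
    (hf : f ∈ charSpan B) : blockOp B f = f := by
  classical
  unfold charSpan at hf
  induction hf using Submodule.span_induction with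
  | mem x hx =>
    obtain ⟨χ, hχ, rfl⟩ := hx
    show blockOp B (χ : H → ℂ) = _
    rw [blockOp_irr, if_pos hχ, one_smul]
  | zero => rw [map_zero]
  | add x y _ _ hx hy => rw [map_add, hx, hy]
  | smul c x _ hx => rw [map_smul, hx]

theorem redC_blockOp_congr (hM : IsPModular p M) [hMp : M.IsPrime] {H : Type u} [Group H] [Fintype H]
    {B : Set (IrrCharacter H)} (hB : IsUnion M B) {f f' : H → ℂ} (hf : ∀ x, MemLocalRing M (f x))
    (hf' : ∀ x, MemLocalRing M (f' x)) (h : ∀ x, redC M (f x) = redC M (f' x)) (s : H) :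
    redC M (blockOp B f s) = redC M (blockOp B f' s) := by
  rw [blockOp_apply, blockOp_apply,
    redC_sum fun h _ => memLocalRing_mul (memLocalRing_blockCoeff hM hB h) (hf _),
    redC_sum fun h _ => memLocalRing_mul (memLocalRing_blockCoeff hM hB h) (hf' _)]
  refine Finset.sum_congr rfl fun x _ => ?_
  rw [redC_mul (memLocalRing_blockCoeff hM hB x) (hf _), redC_mul (memLocalRing_blockCoeff hM hB x) (hf' _), h]

/-- **Stable functions.** -/
theorem stabU (hM : IsPModular p M) [hMp : M.IsPrime] {G : Type u} [Group G] [Finite G] (Q : Subgroup G) (hQ : IsPGroup p ↥Q)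
    (C : Subgroup G) (hC : C = centralizer (Q : Set G)) {m : ℕ} (f : Fin m → ↥C → ℂ)
    (hfl : ∀ i x, MemLocalRing M (f i x))
    (hfB : ∀ i, f i ∈ (charSpan (principalBlock M ↥C)).map (pReg p))
    (hst : ∀ i (s s' : ↥C), ¬ p ∣ orderOf s → IsConj (s : G) (s' : G) → redC M (f i s) = redC M (f i s'))
    (hli : LinearIndependent (ResField M) (fun i (s : {s : ↥C // ¬ p ∣ orderOf s}) => redC M (f i s))) :
    m ≤ blockRank p (principalBlock M G) := by
  classical
  have := Fintype.ofFinite G
  have := Fintype.ofFinite ↥C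
  have := finite_irr (G := G)
  have hBG : IsUnion M (principalBlock M G) := isUnion_of_isPBlock
    Cfsg.Agent.Blocks.PrincipalSection.isPBlock_principalBlock
  have hBC : IsUnion M (principalBlock M ↥C) := isUnion_of_isPBlock
    Cfsg.Agent.Blocks.PrincipalSection.isPBlock_principalBlock
  -- the extension
  let Φ : Fin m → ConjClasses G → ℂ := fun i c =>
    if h : ∃ s : ↥C, ¬ p ∣ orderOf s ∧ ConjClasses.mk (s : G) = c then f i h.choose else 0
  let F : Fin m → G → ℂ := fun i g => Φ i (ConjClasses.mk g)
  have hFc : ∀ i, IsClassFunction G (F i) := by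
    intro i g h
    show Φ i (ConjClasses.mk (h * g * h⁻¹)) = Φ i (ConjClasses.mk g)
    rw [show ConjClasses.mk (h * g * h⁻¹) = ConjClasses.mk g from
      (ConjClasses.mk_eq_mk_iff_isConj.2 (isConj_iff.2 ⟨h, rfl⟩)).symm]
  have hFl : ∀ i x, MemLocalRing M (F i x) := by
    intro i x
    show MemLocalRing M (Φ i (ConjClasses.mk x))
    by_cases h : ∃ s : ↥C, ¬ p ∣ orderOf s ∧ ConjClasses.mk (s : G) = ConjClasses.mk x
    · simp only [Φ, dif_pos h]
      exact hfl _ _
    · simp only [Φ, dif_neg h]
      exact memLocalRing_zero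
  have hFf : ∀ i (s : ↥C), redC M (F i s) = redC M (f i s) := by
    intro i s
    by_cases hs : p ∣ orderOf s
    · have h1 : ¬ ∃ s' : ↥C, ¬ p ∣ orderOf s' ∧ ConjClasses.mk (s' : G) = ConjClasses.mk (s : G) := by
        rintro ⟨s', hs', h2⟩
        apply hs'
        obtain ⟨c, hc⟩ := isConj_iff.1 (ConjClasses.mk_eq_mk_iff_isConj.1 h2)
        rw [← Subgroup.orderOf_coe] at hs ⊢
        rw [← hc] at hs
        rwa [show orderOf (c * (s' : G) * c⁻¹) = orderOf (s' : G) from
          (MulEquiv.orderOf_eq (MulAut.conj c) (s' : G))] at hs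
      have h3 : F i s = 0 := by
        show Φ i (ConjClasses.mk (s : G)) = 0
        simp only [Φ, dif_neg h1]
      obtain ⟨u, -, hu⟩ := hfB i
      rw [h3, ← hu, pReg_of_not (fun h => h hs)]
    · have h1 : ∃ s' : ↥C, ¬ p ∣ orderOf s' ∧ ConjClasses.mk (s' : G) = ConjClasses.mk (s : G) := ⟨s, hs, rfl⟩
      have h3 : F i s = f i h1.choose := by
        show Φ i (ConjClasses.mk (s : G)) = _
        simp only [Φ, dif_pos h1]
      rw [h3]
      exact hst i _ _ h1.choose_spec.1 (ConjClasses.mk_eq_mk_iff_isConj.1 h1.choose_spec.2)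
  -- the block components
  let Y := {s : ↥C // ¬ p ∣ orderOf s}
  let v : Fin m → Y → ℂ := fun i s => blockOp (principalBlock M G) (F i) ((s : ↥C) : G)
  have hv : ∀ i s, MemLocalRing M (v i s) := fun i s => blockOp_local hM hBG (hFl i) _
  have hvr : ∀ i (s : Y), redC M (v i s) = redC M (f i s) := by
    intro i s
    have h1 : redC M (v i s) = redC M (blockOp (principalBlock M ↥C) (fun c : ↥C => F i c) s) := by
      subst hC
      exact redC_blockOp hM hQ (hFc i) (hFl i) s
    rw [h1, redC_blockOp_congr hM hBC (fun x => hFl i _) (hfl i) (hFf i),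
      blockOp_of_mem (map_pReg_le' hM (hfB i))]
  have h1 : LinearIndependent ℂ v := by
    apply linearIndependent_of_redC v hv
    convert hli using 1
    funext i s
    exact hvr i s
  have h2 : finrank ℂ (Submodule.span ℂ (Set.range v)) = m := by
    rw [finrank_span_eq_card h1, Fintype.card_fin]
  rw [← h2, blockRank_eq]
  let L : (G → ℂ) →ₗ[ℂ] (Y → ℂ) := LinearMap.funLeft ℂ ℂ (fun j : Y => ((j : ↥C) : G))
  refine le_trans (Submodule.finrank_mono (?_ : _ ≤ ((charSpan (principalBlock M G)).map (pReg p)).map L))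
    (Submodule.finrank_map_le _ _)
  rw [Submodule.span_le]
  rintro _ ⟨i, rfl⟩
  refine ⟨pReg p (blockOp (principalBlock M G) (F i)), ⟨_, blockOp_mem_span _ (hFc i), rfl⟩, ?_⟩
  funext j
  show pReg p (blockOp (principalBlock M G) (F i)) ((j : ↥C) : G) = _
  have hreg : IsPRegular p (((j : ↥C)) : G) := by
    have := j.2
    unfold IsPRegular
    rwa [Subgroup.orderOf_coe]
  rw [pReg_of hreg]

/-- Independence modulo `M` from independence modulo `V`. -/
theorem indep_V (hM : IsPModular p M) [hMp : M.IsPrime] {V : ValuationSubring ℂ} (hV : Above M V) {ι Y : Type*}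
    [Finite ι] (f : ι → Y → ℂ) (hfl : ∀ i y, MemLocalRing M (f i y)) (g : ι → Y → ResidueField V)
    (hfg : ∀ i y, ∃ z : V, (z : ℂ) = f i y ∧ residue V z = g i y) (hg : LinearIndependent (ResidueField V) g) :
    LinearIndependent (ResField M) (fun i y => redC M (f i y)) := by
  classical
  have := Fintype.ofFinite ι
  rw [Fintype.linearIndependent_iff] at hg ⊢
  intro a ha
  have hl : ∀ i, ∃ c : localRing M, red M c = a i := fun i => red_surjective _
  choose c hc using hl
  have hcl : ∀ i, MemLocalRing M (c i : ℂ) := fun i => (c i).2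
  have hcr : ∀ i, redC M (c i : ℂ) = a i := fun i => by rw [redC_def (hcl i)]; exact hc i
  choose z hz1 hz2 using hfg
  let w : ι → V := fun i => ⟨(c i : ℂ), hV.mem_of_local hM.2.1 (hcl i)⟩
  have key := hg (fun i => residue V (w i)) ?_
  · intro i
    have h1 := key i
    rw [Above.residue_eq_zero_iff'] at h1
    have h2 := (hV.nonunit_iff hM.2.1 (hcl i)).1 h1
    rw [← hcr i]
    exact (redC_eq_zero_iff (hcl i)).2 h2
  · funext y
    have h1 := congrFun ha y
    rw [Finset.sum_apply] at h1 ⊢
    rw [Pi.zero_apply] at h1 ⊢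
    have h2 : MemLocalIdeal M (∑ i, (c i : ℂ) * f i y) := by
      rw [← redC_eq_zero_iff (memLocalRing_sum fun i _ => memLocalRing_mul (hcl i) (hfl i y)),
        redC_sum fun i _ => memLocalRing_mul (hcl i) (hfl i y), ← h1]
      refine Finset.sum_congr rfl fun i _ => ?_
      rw [redC_mul (hcl i) (hfl i y), hcr, Pi.smul_apply, smul_eq_mul]
    have h3 := hV.nonunit_of_local hM.2.1 h2
    have h4 : residue V (∑ i, w i * z i y) = 0 := by
      rw [Above.residue_eq_zero_iff']
      convert h3 using 1
      push_cast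
      exact Finset.sum_congr rfl fun i _ => by rw [hz1]
    rw [← h4, map_sum]
    refine Finset.sum_congr rfl fun i _ => ?_
    rw [Pi.smul_apply, smul_eq_mul, map_mul, hz2]

/-- Functions in the span of `B₀(C)` on the centralizer of a large `p`-subgroup. -/
theorem const_of_central (hM : IsPModular p M) [hMp : M.IsPrime] {C : Type u} [Group C] [Finite C] (R : Subgroup C)
    (hR : IsPGroup p ↥R) (hnc : ∃ k : ℕ, (pPrimeCore p ↥(centralizer (R : Set C))).index = p ^ k) {f : C → ℂ}
    (hfl : ∀ x, MemLocalRing M (f x)) (hfB : f ∈ (charSpan (principalBlock M C)).map (pReg p)) {s : C}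
    (hs : s ∈ centralizer (R : Set C)) (hsp : ¬ p ∣ orderOf s) : redC M (f s) = redC M (f 1) := by
  classical
  have := Fintype.ofFinite C
  have := Fintype.ofFinite ↥(centralizer (R : Set C))
  have hfc : IsClassFunction C f := charSpan_isClassFunction (map_pReg_le' hM hfB)
  have hfT : IsClassFunction ↥(centralizer (R : Set C)) (fun t => f (t : C)) := fun g h => hfc g h
  have key : ∀ t : ↥(centralizer (R : Set C)), redC M (f (t : C)) =
      redC M (blockOp (principalBlock M ↥(centralizer (R : Set C))) (fun t => f (t : C)) t) := by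
    intro t
    rw [← redC_blockOp hM hR hfc hfl t, blockOp_of_mem (map_pReg_le' hM hfB)]
  have h1 := blockOp_mem_span (principalBlock M ↥(centralizer (R : Set C))) hfT
  have h2 : ∀ u ∈ charSpan (principalBlock M ↥(centralizer (R : Set C))),
      u ⟨s, hs⟩ = u 1 := by
    intro u hu
    unfold charSpan at hu
    induction hu using Submodule.span_induction with
    | mem x hx =>
      obtain ⟨χ, hχ, rfl⟩ := hx
      rw [S0939.result p M hM hnc] at hχ
      have h3 : (⟨s, hs⟩ : ↥(centralizer (R : Set C))) ∈ pPrimeCore p ↥(centralizer (R : Set C)) := by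
        refine Cfsg.Agent.Blocks.PrincipalSection.mem_pPrimeCore_of_regular hnc ?_
        rwa [← Subgroup.orderOf_coe]
      exact hχ _ h3
    | zero => rfl
    | add x y _ _ hx hy => rw [Pi.add_apply, Pi.add_apply, hx, hy]
    | smul c x _ hx => rw [Pi.smul_apply, Pi.smul_apply, hx]
  have h3 := key ⟨s, hs⟩
  have h4 := key 1
  rw [h2 _ h1] at h3
  rw [← h4] at h3
  exact h3

end Cfsg.Agent.H319.LB
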