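import Cfsg.Agent.H319.LB.E27
import Cfsg.Agent.H271.LB.Three

/-!
# S4879, `p = 3`: the almost simple groups, without the classification in the closure (helper319)

`rowAS_three_of` : `RowAS 3 M` from S4605 for `p = 3`, the classification, the rows `PSL₂(3ⁿ)` and `O'N`
(`e27_row` plugged in).
-/

set_option autoImplicit false

namespace Cfsg.Agent.H319.LB

open Cfsg Subgroup

universe u

theorem rowExt {M : Ideal AlgInt} (hM : IsPModular 3 M) : H271.LB.RowExt.{u} M :=
  fun _ _ _ P hE h27 hconj => e27_row hM P hE h27 hconj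

/-- **`RowAS` for `p = 3`.** -/
theorem rowAS_three_of {M : Ideal AlgInt} (hM : IsPModular 3 M) (hS : H271.LB.SylThree.{u})
    (hK : ∀ (S : Type u) [Group S] [Finite S] [IsSimpleGroup S], IsKnownSimple' S)
    (hPsl : H271.LB.RowPslThree.{u} M) (hON : H271.LB.RowON.{u} M) : RowAS.{u} 3 M :=
  H271.LB.three_of hM hS hK hPsl hON (rowExt hM)

end Cfsg.Agent.H319.LB
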